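import Mathlib
import Cfsg.Agent.Ch.RealChar3
import Cfsg.Agent.Ch.Brauer
import Cfsg.Agent.Ch.BrauerPoint
import Cfsg.Agent.Ch.Quotient
import Cfsg.Agent.Ch.Linear

/-!
# Groups without characters of indicator `-1`; a Brauer–Witt reduction
-/

set_option autoImplicit false
open Cfsg ComplexConjugate

namespace Cfsg.Agent.Fs
open Cfsg.Agent.Ch

variable {G : Type*} [Group G] {H : Type*} [Group H]

/-- No irreducible character has Frobenius–Schur indicator `-1`. -/
structure NoQ (G : Type*) [Group G] : Prop where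
  out : ∀ [Fintype G] (χ : G → ℂ), IsIrrCharacter G χ → fsInd χ ≠ -1

theorem fsInd_comp_surj [Fintype G] [Fintype H] (f : G →* H) (hf : Function.Surjective f)
    (χ : H → ℂ) : fsInd (fun g => χ (f g)) = fsInd χ := by
  have h := classInner_comp_surjective f hf (fun x => χ (x * x)) (fun _ => 1)
  rw [classInner_one_right, classInner_one_right] at h
  simpa [fsInd, map_mul] using h

theorem real_of_fsInd_ne [Fintype G] {χ : G → ℂ} (h : IsIrrCharacter G χ) (h1 : fsInd χ ≠ 0) :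
    ∀ g, (χ g).im = 0 := (fsInd_ne_zero_iff h).1 h1

theorem real_of_neg_one [Fintype G] {χ : G → ℂ} (h : IsIrrCharacter G χ) (h1 : fsInd χ = -1) :
    ∀ g, (χ g).im = 0 := real_of_fsInd_ne h (by rw [h1]; norm_num)

theorem inv_eq_of_real [Finite G] {χ : G → ℂ} (h : IsCharacter G χ) (hr : ∀ g, (χ g).im = 0)
    (g : G) : χ g⁻¹ = χ g := by
  rw [h.apply_inv, Complex.conj_eq_iff_im, hr]

theorem real_of_inv_eq [Finite G] {χ : G → ℂ} (h : IsCharacter G χ) (hr : ∀ g, χ g⁻¹ = χ g)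
    (g : G) : (χ g).im = 0 := by
  rw [← Complex.conj_eq_iff_im, h.conj_apply, hr]

theorem NoQ.of_surj [Finite G] (hG : NoQ G) (f : G →* H) (hf : Function.Surjective f) :
    NoQ H := by
  constructor
  intro _ χ hχ
  have := Fintype.ofFinite G
  rw [← fsInd_comp_surj f hf]
  exact hG.out _ (hχ.comp_surjective f hf)

theorem NoQ.of_equiv (hG : NoQ G) (e : G ≃* H) : NoQ H := by
  constructor
  intro _ χ hχ
  have : Finite G := Finite.of_equiv _ e.toEquiv.symm
  exact (hG.of_surj e.toMonoidHom e.surjective).out χ hχ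

theorem NoQ.of_range [Finite G] (hG : NoQ G) (f : G →* H) {K : Subgroup H} (h1 : ∀ g, f g ∈ K)
    (h2 : ∀ k ∈ K, ∃ g, f g = k) : NoQ K :=
  hG.of_surj (f.codRestrict K h1) fun k => by
    obtain ⟨g, hg⟩ := h2 k k.2
    exact ⟨g, Subtype.ext hg⟩

theorem NoQ.of_range_sub [Finite G] {S : Subgroup G} (hS : NoQ S) (f : G →* H) {K : Subgroup H}
    (h1 : ∀ g ∈ S, f g ∈ K) (h2 : ∀ k ∈ K, ∃ g ∈ S, f g = k) : NoQ K :=
  hS.of_range (f.comp S.subtype) (fun g => h1 g g.2) fun k hk => by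
    obtain ⟨g, hg, e⟩ := h2 k hk
    exact ⟨⟨g, hg⟩, e⟩

theorem NoQ.of_eq {S K : Subgroup G} (hS : NoQ S) (h : ∀ g, g ∈ S ↔ g ∈ K) : NoQ K := by
  have : S = K := Subgroup.ext h
  subst this
  exact hS

theorem NoQ.top (hG : NoQ G) {K : Subgroup G} (h : ∀ g, g ∈ K) : NoQ K := by
  have : K = ⊤ := eq_top_iff.2 fun g _ => h g
  subst this
  exact hG.of_equiv Subgroup.topEquiv.symm

theorem NoQ.prod [Finite G] [Finite H] (hG : NoQ G) (hH : NoQ H) : NoQ (G × H) := by
  constructor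
  intro i χ hχ
  have := Fintype.ofFinite G
  have := Fintype.ofFinite H
  obtain rfl : i = instFintypeProd G H := Subsingleton.elim _ _
  obtain ⟨φ, ψ, hφ, hψ, rfl⟩ := (isIrrCharacter_prod_iff χ).1 hχ
  rw [RC.fsInd_prod]
  have h1 := hG.out φ hφ
  have h2 := hH.out ψ hψ
  rcases fsInd_trichotomy hφ with h | h | h <;> rcases fsInd_trichotomy hψ with h' | h' | h' <;>
    simp_all <;> norm_num

theorem NoQ.of_comm (h : ∀ a b : G, a * b = b * a) : NoQ G := by
  constructor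
  intro _ χ hχ h1
  have hr := real_of_neg_one hχ h1
  have := fsInd_eq_one_of_odd hχ hr (d := 1) (by simpa using hχ.apply_one_eq_one_of_comm h)
    odd_one
  rw [h1] at this
  norm_num at this

/-- A subgroup of odd order whose complement consists of involutions. -/
theorem NoQ.of_odd_sub (A : Subgroup G) (hA : Odd (Nat.card A)) (h : ∀ g, g ∉ A → g * g = 1) :
    NoQ G := by
  classical
  constructor
  intro _ χ hχ h1
  have hsq : Function.Bijective fun a : A => a * a := by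
    have := powCoprime (G := A) (n := 2) (Nat.coprime_two_right.2 hA)
    have h2 := (powCoprime (G := A) (n := 2) (Nat.coprime_two_right.2 hA)).bijective
    convert h2 using 1
    funext a
    simp [sq]
  obtain ⟨n, hn⟩ := (hχ.isCharacter.restrict A).exists_nat_classInner IsCharacter.one
  rw [classInner_one_right] at hn
  have e1 : ∑ g : G, χ (g * g) = ∑ a : A, χ ((a * a : A) : G) +
      ∑ g ∈ Finset.univ.filter (· ∉ A), χ (g * g) := by
    rw [← Finset.sum_filter_add_sum_filter_not Finset.univ (· ∈ A)]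
    congr 1
    exact Finset.sum_subtype _ (by simp) _
  have e2 : ∑ a : A, χ ((a * a : A) : G) = ∑ a : A, χ a :=
    hsq.sum_comp fun a : A => χ a
  have e3 : ∑ g ∈ Finset.univ.filter (· ∉ A), χ (g * g) =
      ((Finset.univ.filter (· ∉ A)).card * charDegree χ : ℕ) := by
    rw [Finset.sum_congr rfl fun g hg => by rw [h g (by simpa using hg)]]
    simp [hχ.coe_charDegree]
  have e4 : ∑ a : A, χ a = (Nat.card A * n : ℕ) := by
    have := natCard_ne_zero A
    push_cast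
    rw [← hn]
    field_simp
  rw [fsInd, e1, e2, e3, e4] at h1
  have h0 := natCard_ne_zero G
  have h5 : ((Nat.card A * n + (Finset.univ.filter (· ∉ A)).card * charDegree χ + Nat.card G : ℕ) :
      ℂ) = 0 := by
    field_simp at h1
    push_cast at h1 ⊢
    linear_combination h1
  have h6 := Nat.cast_eq_zero.1 h5
  have : 0 < Nat.card G := Nat.card_pos
  omega

/-- A character of indicator `-1` pulled back to a group without such characters is `β + β̄`. -/
theorem exists_add_inv [Fintype G] [Finite H] {χ : G → ℂ} (hχ : IsIrrCharacter G χ)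
    (h1 : fsInd χ = -1) (hH : NoQ H) (f : H →* G) :
    ∃ β : H → ℂ, IsCharacter H β ∧ ∀ k, χ (f k) = β k + β k⁻¹ := by
  classical
  have := Fintype.ofFinite H
  have hr := real_of_neg_one hχ h1
  have hs := inv_eq_of_real hχ.isCharacter hr
  obtain ⟨m, hm, hsum⟩ := (hχ.isCharacter.comp f).exists_mult
  let σ : IrrCharacter H → IrrCharacter H := fun φ => ⟨fun x => φ.1 x⁻¹, φ.2.comp_inv⟩
  have hσ : Function.Involutive σ := fun φ => Subtype.ext (funext fun x => by simp [σ])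
  have hmσ : ∀ φ, m (σ φ) = m φ := fun φ => by
    have h2 := classInner_comp_inv (fun x => χ (f x)) φ.1
    simp only [map_inv, hs] at h2
    have h3 := hm (σ φ)
    rw [show ((σ φ : IrrCharacter H) : H → ℂ) = fun x => φ.1 x⁻¹ from rfl, h2, hm φ] at h3
    exact_mod_cast h3.symm
  have heven : ∀ φ, σ φ = φ → Even (m φ) := fun φ hφ => by
    by_contra hodd
    have hφr : ∀ x, (φ.1 x).im = 0 :=
      real_of_inv_eq φ.2.isCharacter fun x => congrFun (congrArg Subtype.val hφ) x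
    have h2 := RC.fsInd_eq_of_odd_classInner hχ hr φ.2 hφr f (hm φ) (Nat.not_even_iff_odd.1 hodd)
    exact hH.out φ.1 φ.2 (h2 ▸ h1)
  let idx := Fintype.equivFin (IrrCharacter H)
  let n : IrrCharacter H → ℕ := fun φ =>
    if σ φ = φ then m φ / 2 else if idx φ < idx (σ φ) then m φ else 0
  have hn : ∀ φ, n φ + n (σ φ) = m φ := fun φ => by
    simp only [n, hσ φ, hmσ]
    by_cases h : σ φ = φ
    · rw [if_pos h, if_pos h.symm]
      obtain ⟨k, hk⟩ := heven φ h
      omega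
    · have h' : idx (σ φ) ≠ idx φ := fun e => h (idx.injective e)
      rw [if_neg h, if_neg (Ne.symm h)]
      rcases lt_or_gt_of_ne h' with h2 | h2
      · rw [if_neg (not_lt.2 h2.le), if_pos h2, zero_add]
      · rw [if_pos h2, if_neg (not_lt.2 h2.le), add_zero]
  refine ⟨_, IsCharacter.of_sum_nat n, fun k => ?_⟩
  have e1 : (∑ φ : IrrCharacter H, n φ • (φ : H → ℂ)) k⁻¹ =
      ∑ φ : IrrCharacter H, (n (σ φ) : ℂ) * φ.1 k := by
    rw [Finset.sum_apply, ← hσ.bijective.sum_comp]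
    refine Finset.sum_congr rfl fun φ _ => ?_
    simp [σ]
  rw [e1, congrFun hsum k, Finset.sum_apply, Finset.sum_apply, ← Finset.sum_add_distrib]
  refine Finset.sum_congr rfl fun φ _ => ?_
  rw [← hn φ]
  simp [add_mul]

/-- The span of the characters over the algebraic integers. -/
abbrev ASp (G : Type*) [Group G] : Submodule AlgInt (G → ℂ) :=
  Submodule.span AlgInt {χ : G → ℂ | IsCharacter G χ}

theorem asp_of_char {χ : G → ℂ} (h : IsCharacter G χ) : χ ∈ ASp G := Submodule.subset_span h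

theorem asp_mul {f g : G → ℂ} (hf : f ∈ ASp G) (hg : g ∈ ASp G) : f * g ∈ ASp G := by
  have h := Submodule.mul_mem_mul hf hg
  rw [Submodule.span_mul_span] at h
  refine Submodule.span_mono ?_ h
  rintro _ ⟨a, ha, b, hb, rfl⟩
  exact IsCharacter.mul ha hb

theorem asp_map {L : (G → ℂ) →ₗ[ℂ] (H → ℂ)} (hL : ∀ χ, IsCharacter G χ → IsCharacter H (L χ))
    {f : G → ℂ} (hf : f ∈ ASp G) : L f ∈ ASp H := by
  induction hf using Submodule.span_induction with
  | mem x hx => exact asp_of_char (hL x hx)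
  | zero => rw [map_zero]; exact Submodule.zero_mem _
  | add x y _ _ hx hy => rw [map_add]; exact Submodule.add_mem _ hx hy
  | smul a x _ hx =>
    rw [← algebraMap_smul ℂ a x, map_smul, algebraMap_smul]
    exact Submodule.smul_mem _ a hx

theorem asp_comp (φ : H →* G) {f : G → ℂ} (hf : f ∈ ASp G) : (fun x => f (φ x)) ∈ ASp H :=
  asp_map (L := LinearMap.funLeft ℂ ℂ φ) (fun _ h => h.comp φ) hf

theorem asp_inv {f : G → ℂ} (hf : f ∈ ASp G) : (fun x => f x⁻¹) ∈ ASp G :=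
  asp_map (L := LinearMap.funLeft ℂ ℂ fun x : G => x⁻¹) (fun _ h => h.comp_inv) hf

theorem asp_ind [Fintype G] (E : Subgroup G) {f : E → ℂ} (hf : f ∈ ASp E) :
    indFun E f ∈ ASp G :=
  asp_map (L := indLin E) (fun _ h => isCharacter_indFun E h) hf

theorem asp_class {f : G → ℂ} (hf : f ∈ ASp G) : IsClassFunction G f := by
  induction hf using Submodule.span_induction with
  | mem x hx => exact hx.isClassFunction
  | zero => exact IsClassFunction.zero
  | add x y _ _ hx hy => exact hx.add hy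
  | smul a x _ hx => exact hx.smul a

theorem asp_avg [Fintype G] {f : G → ℂ} (hf : f ∈ ASp G) :
    ∃ a : AlgInt, classInner f (fun _ => 1) = a := by
  induction hf using Submodule.span_induction with
  | mem x hx =>
    obtain ⟨n, hn⟩ := hx.exists_nat_classInner IsCharacter.one
    exact ⟨n, by simpa using hn⟩
  | zero => exact ⟨0, by simp⟩
  | add x y _ _ hx hy =>
    obtain ⟨a, ha⟩ := hx
    obtain ⟨b, hb⟩ := hy
    exact ⟨a + b, by rw [classInner_add_left, ha, hb]; simp⟩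
  | smul c x _ hx =>
    obtain ⟨a, ha⟩ := hx
    refine ⟨c * a, ?_⟩
    rw [← algebraMap_smul ℂ c x, classInner_smul_left, ha]
    simp

/-- The inversion-invariant elements `φ` with `⟨ξ φ ρ, 1⟩` even for all inversion-invariant `ρ`. -/
def evenMod [Fintype G] (ξ : G → ℂ) : Submodule AlgInt (G → ℂ) where
  carrier := {φ | φ ∈ ASp G ∧ (∀ g, φ g⁻¹ = φ g) ∧ ∀ ρ ∈ ASp G, (∀ g, ρ g⁻¹ = ρ g) →
    ∃ a : AlgInt, classInner (φ * (ξ * ρ)) (fun _ => 1) = 2 * a}
  zero_mem' := ⟨Submodule.zero_mem _, fun _ => rfl, fun _ _ _ => ⟨0, by simp⟩⟩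
  add_mem' := by
    rintro φ ψ ⟨h1, h2, h3⟩ ⟨h1', h2', h3'⟩
    refine ⟨Submodule.add_mem _ h1 h1', fun g => by simp [h2, h2'], fun ρ hρ hs => ?_⟩
    obtain ⟨a, ha⟩ := h3 ρ hρ hs
    obtain ⟨b, hb⟩ := h3' ρ hρ hs
    exact ⟨a + b, by rw [add_mul, classInner_add_left, ha, hb]; push_cast; ring⟩
  smul_mem' := by
    rintro c φ ⟨h1, h2, h3⟩
    refine ⟨Submodule.smul_mem _ c h1, fun g => by simp [h2], fun ρ hρ hs => ?_⟩
    obtain ⟨a, ha⟩ := h3 ρ hρ hs
    refine ⟨c * a, ?_⟩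
    rw [smul_mul_assoc, ← algebraMap_smul ℂ c, classInner_smul_left, ha]
    simp only [Subalgebra.algebraMap_def, Algebra.algebraMap_self, RingHom.id_apply,
      MulMemClass.coe_mul]
    ring

theorem evenMod_mul [Fintype G] {ξ φ ψ : G → ℂ} (h : φ ∈ evenMod ξ) (h' : ψ ∈ evenMod ξ) :
    φ * ψ ∈ evenMod ξ := by
  obtain ⟨h1, h2, h3⟩ := h
  obtain ⟨h1', h2', -⟩ := h'
  refine ⟨asp_mul h1 h1', fun g => by simp [h2, h2'], fun ρ hρ hs => ?_⟩
  obtain ⟨a, ha⟩ := h3 (ψ * ρ) (asp_mul h1' hρ) fun g => by simp [h2', hs]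
  exact ⟨a, by rw [← ha]; congr 1; ring⟩

theorem add_inv_mem_evenMod [Fintype G] {ξ φ : G → ℂ} (hξ : ξ ∈ ASp G) (hs : ∀ g, ξ g⁻¹ = ξ g)
    (h : φ ∈ ASp G) : (φ + fun g => φ g⁻¹) ∈ evenMod ξ := by
  refine ⟨Submodule.add_mem _ h (asp_inv h), fun g => by simp [add_comm], fun ρ hρ hr => ?_⟩
  obtain ⟨a, ha⟩ := asp_avg (asp_mul h (asp_mul hξ hρ))
  refine ⟨a, ?_⟩
  have h2 := classInner_comp_inv (φ * (ξ * ρ)) (fun _ => 1)
  simp only [Pi.mul_apply, hs, hr] at h2
  rw [add_mul, classInner_add_left, ha, two_mul, ← ha, ← h2]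
  rfl

theorem indFun_inv [Fintype G] (E : Subgroup G) (θ : E → ℂ) (g : G) :
    indFun E θ g⁻¹ = indFun E (fun e => θ e⁻¹) g := by
  rw [indFun_apply, indFun_apply]
  congr 1
  refine Finset.sum_congr rfl fun x _ => ?_
  rw [show x⁻¹ * g⁻¹ * x = (x⁻¹ * g * x)⁻¹ by group]
  generalize x⁻¹ * g * x = y
  by_cases hy : y ∈ E
  · rw [extendByZero_of_mem E _ hy, extendByZero_of_mem E _ (E.inv_mem hy)]
    rfl
  · rw [extendByZero_of_not_mem E _ hy, extendByZero_of_not_mem E _ (by simpa using hy)]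

/-- The real case: an induced function that is invariant under `e ↦ t e⁻¹ t⁻¹`. -/
theorem indFun_mem_evenMod [Fintype G] {χ : G → ℂ} (hχ : IsIrrCharacter G χ) (h1 : fsInd χ = -1)
    {E K : Subgroup G} (hK : NoQ K) (hEK : E ≤ K) {t : G} (ht : t ∈ K)
    (htE : ∀ x, x ∈ E ↔ t * x * t⁻¹ ∈ E) {θ : E → ℂ} (hθ : θ ∈ ASp E)
    (hs : ∀ e : E, θ ⟨t * e * t⁻¹, (htE e).1 e.2⟩ = θ e⁻¹) : indFun E θ ∈ evenMod (χ * χ) := by
  classical
  obtain ⟨β, hβ, hb⟩ := exists_add_inv hχ h1 hK K.subtype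
  refine ⟨asp_ind E hθ, fun g => ?_, fun ρ hρ hr => ?_⟩
  · rw [indFun_inv, indFun_conj_subgroup E E t htE θ (fun e => θ e⁻¹) fun e => (hs e).symm]
  · let i : E →* K := Subgroup.inclusion hEK
    have hcl : IsClassFunction G (χ * χ * ρ) :=
      asp_class (asp_mul (asp_of_char (hχ.isCharacter.mul hχ.isCharacter)) hρ)
    have e1 : classInner (indFun E θ * (χ * χ * ρ)) (fun _ => 1) =
        classInner (fun e : E => θ e * (χ * χ * ρ) e) (fun _ => 1) := by
      rw [← classInner_indFun_left E _ (IsClassFunction.const 1), indFun_mul_res E θ hcl]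
      rfl
    have hρE : (fun e : E => ρ e) ∈ ASp E := asp_comp E.subtype hρ
    have hβE : (fun e : E => β (i e)) ∈ ASp E := asp_comp i (asp_of_char hβ)
    obtain ⟨a, ha⟩ := asp_avg (asp_mul (asp_mul hθ hρE) (asp_mul hβE hβE))
    obtain ⟨b, hb'⟩ := asp_avg (asp_mul (asp_mul hθ hρE) (asp_mul hβE (asp_inv hβE)))
    let σ : E ≃ E :=
      { toFun := fun e => ⟨t * (e⁻¹ : E) * t⁻¹, (htE _).1 (e⁻¹).2⟩
        invFun := fun e => ⟨t⁻¹ * (e⁻¹ : E) * t, (htE _).2 (by simpa [mul_assoc] using e.2)⟩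
        left_inv := fun e => Subtype.ext (by simp [mul_assoc])
        right_inv := fun e => Subtype.ext (by simp [mul_assoc]) }
    have e2 := classInner_comp_equiv σ
      (θ * (fun e : E => ρ e) * ((fun e : E => β (i e)) * fun e : E => β (i e))) (fun _ => 1)
    rw [ha] at e2
    have e3 : (fun e : E => θ e * (χ * χ * ρ) e) =
        (θ * (fun e : E => ρ e) * ((fun e : E => β (i e)) * fun e : E => β (i e))) +
        (fun x => (θ * (fun e : E => ρ e) * ((fun e : E => β (i e)) * fun e : E => β (i e))) (σ x))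
        + (2 : ℂ) • (θ * (fun e : E => ρ e) *
          ((fun e : E => β (i e)) * fun e : E => β (i e⁻¹))) := by
      funext e
      have f1 : θ (σ e) = θ e := (hs e⁻¹).trans (by rw [inv_inv])
      have f2 : ρ (σ e) = ρ e := by
        rw [← hr (e : G)]
        exact (asp_class hρ).conj_eq _ _
      have f3 : β (i (σ e)) = β (i e)⁻¹ := by
        rw [← hβ.isClassFunction.conj_eq (i e)⁻¹ ⟨t, ht⟩]
        rfl
      have f4 : χ e = β (i e) + β (i e)⁻¹ := hb (i e)
      simp only [Pi.mul_apply, Pi.add_apply, Pi.smul_apply, smul_eq_mul, f1, f2, f3, f4, map_inv]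
      ring
    refine ⟨a + b, ?_⟩
    rw [e1, e3, classInner_add_left, classInner_add_left, classInner_smul_left, ha, e2, hb']
    push_cast
    ring

theorem conj_inv_of {a v : G} (h : a * v * a⁻¹ = v⁻¹) : a * v⁻¹ * a⁻¹ = v := by
  calc a * v⁻¹ * a⁻¹ = (a * v * a⁻¹)⁻¹ := by group
    _ = v := by rw [h, inv_inv]

theorem inv_conj_of {a v : G} (h : a * v * a⁻¹ = v⁻¹) : a⁻¹ * v * a⁻¹⁻¹ = v⁻¹ := by
  conv_lhs => rw [← conj_inv_of h]
  group

/-- The local function at an element whose odd part `v` is real. -/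
theorem exists_local_real [Fintype G] {χ : G → ℂ} (hχ : IsIrrCharacter G χ) (h1 : fsInd χ = -1)
    (h : ∀ (x : G) (P : Subgroup G), Odd (orderOf x) → IsPGroup 2 P →
      (∀ p ∈ P, p * x * p⁻¹ = x ∨ p * x * p⁻¹ = x⁻¹) → ∃ K : Subgroup G, x ∈ K ∧ P ≤ K ∧ NoQ K)
    {u v : G} (hc : Commute u v) (hu : ∃ k : ℕ, orderOf u = 2 ^ k) (hv : ¬ 2 ∣ orderOf v)
    (hreal : IsConj v v⁻¹) :
    ∃ f ∈ evenMod (χ * χ), ∃ n : ℕ, ¬ 2 ∣ n ∧ f (u * v) = n := by
  classical
  have hp := Nat.prime_two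
  let C : Subgroup G := Subgroup.centralizer {v}
  let N : Subgroup G :=
    { carrier := {g | g * v * g⁻¹ = v ∨ g * v * g⁻¹ = v⁻¹}
      one_mem' := Or.inl (by simp)
      mul_mem' := by
        rintro a b ha hb
        have e : a * b * v * (a * b)⁻¹ = a * (b * v * b⁻¹) * a⁻¹ := by group
        have e' : a * v⁻¹ * a⁻¹ = (a * v * a⁻¹)⁻¹ := by group
        simp only [Set.mem_setOf_eq] at ha hb ⊢
        rw [e]
        rcases ha with ha | ha <;> rcases hb with hb | hb <;> rw [hb] <;> simp only [e', ha] <;>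
          simp
      inv_mem' := by
        rintro a (ha | ha)
        · left
          conv_lhs => rw [← ha]
          group
        · exact Or.inr (inv_conj_of ha) }
  have hCN : C ≤ N := fun g hg => Or.inl (by
    rw [Subgroup.mem_centralizer_singleton_iff.mp hg]; group)
  let S : Sylow 2 C := default
  let P₀ : Subgroup G := (S : Subgroup C).map C.subtype
  have hP₀ : IsPGroup 2 P₀ := S.isPGroup'.map _
  have hPC : ∀ w ∈ P₀, Commute v w := by
    rintro _ ⟨w, -, rfl⟩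
    exact (Subgroup.mem_centralizer_singleton_iff.mp w.2).symm
  have hP₀C : P₀ ≤ C := Subgroup.map_subtype_le _
  obtain ⟨S', hS'⟩ := (hP₀.comap_subtype (K := N)).exists_le_sylow
  let P : Subgroup G := (S' : Subgroup N).map N.subtype
  have hP : IsPGroup 2 P := S'.isPGroup'.map _
  have hP₀P : P₀ ≤ P := fun g hg => ⟨⟨g, hCN (hP₀C hg)⟩, hS' hg, rfl⟩
  have hmax : ∀ g ∈ P, g ∈ C → g ∈ P₀ := by
    have h2 : P.subgroupOf C = S := S.is_maximal' hP.comap_subtype fun g hg =>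
      hP₀P ⟨g, hg, rfl⟩
    intro g hg hgC
    exact ⟨⟨g, hgC⟩, by rw [← h2]; exact hg, rfl⟩
  obtain ⟨t, htP, htv⟩ : ∃ t ∈ P, t * v * t⁻¹ = v⁻¹ := by
    obtain ⟨t, ⟨k, hk⟩, ht⟩ := RC.exists_two_element_inverting hreal
    let t' : N := ⟨t, Or.inr ht⟩
    have h2 : IsPGroup 2 (Subgroup.zpowers t') := by
      refine IsPGroup.of_card (n := k) ?_
      rw [Nat.card_zpowers, ← hk, ← Subgroup.orderOf_coe]
    obtain ⟨S'', hS''⟩ := h2.exists_le_sylow
    obtain ⟨g, hg⟩ := MulAction.exists_smul_eq N S'' S'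
    refine ⟨g * t * (g : G)⁻¹, ⟨g * t' * g⁻¹, ?_, rfl⟩, ?_⟩
    · rw [← hg]
      exact ⟨t', hS'' (Subgroup.mem_zpowers _), rfl⟩
    · have e : (g : G) * t * (g : G)⁻¹ * v * ((g : G) * t * (g : G)⁻¹)⁻¹ =
          g * (t * ((g : G)⁻¹ * v * ((g : G)⁻¹)⁻¹) * t⁻¹) * (g : G)⁻¹ := by group
      have e' : t * v⁻¹ * t⁻¹ = v := conj_inv_of ht
      have e'' : (g : G) * v⁻¹ * (g : G)⁻¹ = ((g : G) * v * (g : G)⁻¹)⁻¹ := by group
      rw [e]
      rcases (g⁻¹).2 with h3 | h3
      · have h4 : (g : G) * v * (g : G)⁻¹ = v := by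
          conv_lhs => rw [← h3]
          simp [mul_assoc]
        rw [show (g : G)⁻¹ * v * ((g : G)⁻¹)⁻¹ = v from h3, ht, e'', h4]
      · have h4 : (g : G) * v⁻¹ * (g : G)⁻¹ = v := by
          conv_lhs => rw [← h3]
          simp [mul_assoc]
        rw [show (g : G)⁻¹ * v * ((g : G)⁻¹)⁻¹ = v⁻¹ from h3, e', ← inv_inv (_ * v * _), ← e'', h4]
  obtain ⟨K, hvK, hPK, hK⟩ := h v P (Nat.odd_iff.2 (by omega)) hP (by
    rintro _ ⟨w, -, rfl⟩
    exact w.2)
  have htP₀ : ∀ w, w ∈ P₀ → t * w * t⁻¹ ∈ P₀ ∧ t⁻¹ * w * t ∈ P₀ := fun w hw => by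
    have h2 : Commute v⁻¹ w := (hPC w hw).inv_left
    refine ⟨hmax _ (P.mul_mem (P.mul_mem htP (hP₀P hw)) (P.inv_mem htP)) ?_,
      hmax _ (P.mul_mem (P.mul_mem (P.inv_mem htP) (hP₀P hw)) htP) ?_⟩
    · rw [Subgroup.mem_centralizer_singleton_iff]
      have e' : v = t * v⁻¹ * t⁻¹ := (conj_inv_of htv).symm
      have h3 := h2.map (MulAut.conj t).toMonoidHom
      simp only [MulEquiv.toMonoidHom_eq_coe, MonoidHom.coe_coe, MulAut.conj_apply, ← e'] at h3
      exact h3.symm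
    · rw [Subgroup.mem_centralizer_singleton_iff]
      have e' : v = t⁻¹ * v⁻¹ * t⁻¹⁻¹ := by rw [← htv]; group
      have h3 := h2.map (MulAut.conj t⁻¹).toMonoidHom
      simp only [MulEquiv.toMonoidHom_eq_coe, MonoidHom.coe_coe, MulAut.conj_apply, ← e'] at h3
      simpa using h3.symm.eq
  obtain ⟨E, π, hE, hEeq, hcard, hπ⟩ := exists_elementary_of_commute hp v hv P₀ hP₀ hPC
  obtain ⟨θ, hθ, hθ1, hθ0⟩ := exists_mem_span_indicator π ⟨v, Subgroup.mem_zpowers v⟩ (by
    rw [Subgroup.mem_center_iff]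
    rintro ⟨_, j, rfl⟩
    exact Subtype.ext ((Commute.refl v).zpow_left j).eq)
  let T : Set G := {x | v⁻¹ * x ∈ P₀}
  have hvE : v ∈ E := by rw [hEeq]; exact Subgroup.mem_sup_left (Subgroup.mem_zpowers v)
  have hPE : P₀ ≤ E := by rw [hEeq]; exact le_sup_right
  have hT : T ⊆ E := by
    intro x hx
    simpa using E.mul_mem hvE (hPE hx)
  have hconjE : ∀ s : G, (s * v * s⁻¹ = v⁻¹) → (∀ w ∈ P₀, s * w * s⁻¹ ∈ P₀) →
      ∀ x ∈ E, s * x * s⁻¹ ∈ E := fun s hs hw x hx => by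
    have : E ≤ E.comap (MulAut.conj s).toMonoidHom := by
      conv_lhs => rw [hEeq]
      refine sup_le (Subgroup.zpowers_le.2 ?_) fun w hw' => hPE (hw w hw')
      change s * v * s⁻¹ ∈ E
      rw [hs]
      exact E.inv_mem hvE
    exact this hx
  have htE : ∀ x, x ∈ E ↔ t * x * t⁻¹ ∈ E := fun x =>
    ⟨hconjE t htv (fun w hw => (htP₀ w hw).1) x, fun hx => by
      have := hconjE t⁻¹ (inv_conj_of htv)
        (fun w hw => by simpa using (htP₀ w hw).2) _ hx
      simpa [mul_assoc] using this⟩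
  refine ⟨indFun E θ, indFun_mem_evenMod hχ h1 hK ?_ (hPK htP) htE hθ fun e => ?_, ?_⟩
  · rw [hEeq]
    exact sup_le (Subgroup.zpowers_le.2 hvK) (hP₀P.trans hPK)
  · have key : v⁻¹ * (t * e * t⁻¹) ∈ P₀ ↔ v⁻¹ * (e : G)⁻¹ ∈ P₀ := by
      have e1 : v⁻¹ * (t * e * t⁻¹) = t * (v * e) * t⁻¹ := by rw [← htv]; group
      have e2 : v * e ∈ P₀ ↔ v⁻¹ * (e : G)⁻¹ ∈ P₀ := by
        constructor
        · intro h2
          have h3 := (hPC _ h2).eq
          have : v⁻¹ * (e : G)⁻¹ = (v * e)⁻¹ := by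
            rw [← mul_inv_rev, inv_inj]
            exact mul_left_cancel (a := v) (by rw [h3, mul_assoc])
          rw [this]
          exact P₀.inv_mem h2
        · intro h2
          have h3 := (hPC _ h2).eq
          have : v * e = (v⁻¹ * (e : G)⁻¹)⁻¹ := by
            have h4 : (e : G)⁻¹ = v⁻¹ * (e : G)⁻¹ * v := by rw [← h3]; group
            rw [mul_inv_rev, inv_inv, inv_inv, ← inv_inv (e : G), h4]
            conv_rhs => rw [← h4]
            group
          rw [this]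
          exact P₀.inv_mem h2
      rw [e1, ← e2]
      exact ⟨fun h2 => by simpa [mul_assoc] using (htP₀ _ h2).2, fun h2 => (htP₀ _ h2).1⟩
    by_cases h2 : v⁻¹ * (e : G)⁻¹ ∈ P₀
    · rw [hθ1 _ ((hπ _ _).mpr (key.2 h2)), hθ1 _ ((hπ e⁻¹ _).mpr h2)]
    · rw [hθ0 _ fun h3 => h2 (key.1 ((hπ _ _).mp h3)), hθ0 _ fun h3 => h2 ((hπ e⁻¹ _).mp h3)]
  · obtain ⟨n, hn, hcount⟩ := exists_card_conj_mem_rel hp C S S.not_dvd_index
      (u := u) (Subgroup.mem_centralizer_singleton_iff.mpr hc) hu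
    refine ⟨n, hn, ?_⟩
    have hP' : Nat.card P₀ = Nat.card S := Subgroup.card_map_of_injective C.subtype_injective
    have e : Nat.card {g : G // g⁻¹ * (u * v) * g ∈ T} =
        Nat.card {g : G // g ∈ C ∧ g⁻¹ * u * g ∈ (S : Subgroup C).map C.subtype} := by
      refine Nat.card_congr (Equiv.subtypeEquivRight fun g => ⟨fun hg => ?_, fun hg => ?_⟩)
      · have hw : v⁻¹ * (g⁻¹ * (u * v) * g) ∈ P₀ := hg
        set w := v⁻¹ * (g⁻¹ * (u * v) * g) with hwdef
        have hconj : ∀ x : G, orderOf (g⁻¹ * x * g) = orderOf x := fun x => by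
          simpa using orderOf_injective (MulAut.conj g⁻¹).toMonoidHom (MulAut.conj g⁻¹).injective x
        have key := p_parts_unique hp (u := g⁻¹ * u * g) (v := g⁻¹ * v * g) (u' := w) (v' := v)
          (by simpa using hc.map (MulAut.conj g⁻¹).toMonoidHom) (hPC w hw).symm
          (by rwa [hconj]) (by rwa [hconj])
          (by simpa using (IsPGroup.iff_orderOf.mp hP₀) ⟨w, hw⟩) hv
          (by rw [← (hPC w hw).eq, hwdef]; group)
        refine ⟨Subgroup.mem_centralizer_singleton_iff.mpr ?_, key.1 ▸ hw⟩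
        conv_lhs => rw [← key.2]
        group
      · have h1 : g * v = v * g := Subgroup.mem_centralizer_singleton_iff.mp hg.1
        change v⁻¹ * (g⁻¹ * (u * v) * g) ∈ P₀
        have h2 : v⁻¹ * (g⁻¹ * (u * v) * g) = g⁻¹ * u * g := by
          calc v⁻¹ * (g⁻¹ * (u * v) * g) = (g * v)⁻¹ * (u * v) * g := by group
            _ = (v * g)⁻¹ * (v * u) * g := by rw [h1, hc.eq]
            _ = g⁻¹ * u * g := by group
        rw [h2]
        exact hg.2
    rw [indFun_indicator E T hT (Nat.card (Subgroup.zpowers v)) θ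
      (fun e he => hθ1 e ((hπ e _).mpr he)) (fun e he => hθ0 e fun h => he ((hπ e _).mp h)),
      hcard, Nat.card_zpowers, e, hcount, hP']
    have h1 : (orderOf v : ℂ) ≠ 0 := by exact_mod_cast (orderOf_pos v).ne'
    have h2 : (Nat.card S : ℂ) ≠ 0 := natCard_ne_zero S
    push_cast
    field_simp

/-- **Brauer–Witt reduction** for the indicator. -/
theorem NoQ.brauerWitt
    (h : ∀ (x : G) (P : Subgroup G), Odd (orderOf x) → IsPGroup 2 P →
      (∀ p ∈ P, p * x * p⁻¹ = x ∨ p * x * p⁻¹ = x⁻¹) → ∃ K : Subgroup G, x ∈ K ∧ P ≤ K ∧ NoQ K) :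
    NoQ G := by
  constructor
  intro _ χ hχ h1
  have hr := real_of_neg_one hχ h1
  have hs := inv_eq_of_real hχ.isCharacter hr
  have hχ2 := hχ.isCharacter.mul hχ.isCharacter
  have key : ∀ y : G, ∃ f ∈ evenMod (χ * χ), ∃ n : ℕ, ¬ 2 ∣ n ∧ f y = n := by
    intro y
    obtain ⟨u, v, -, -, rfl, hc, hu, hv⟩ := exists_p_parts Nat.prime_two y
    by_cases hreal : IsConj v v⁻¹
    · exact exists_local_real hχ h1 h hc hu hv hreal
    · obtain ⟨E, θ, -, hθ, h2, h3⟩ := exists_elementary_indFun_eq Nat.prime_two v hv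
      obtain ⟨n, hn, h4⟩ := h2 u hc hu
      refine ⟨_, add_inv_mem_evenMod (asp_of_char hχ2) (fun g => by simp [hs]) (asp_ind E hθ), n,
        hn, ?_⟩
      have h5 := h3 u⁻¹ v⁻¹ hc.inv_inv (by simpa using hu) (by simpa using hv) hreal
      simp only [Pi.add_apply, h4]
      rw [hc.eq, mul_inv_rev, h5, add_zero]
  choose f hf n hn hfy using key
  have h2 := algebraMap_prod_mem (A := AlgInt) (B := ℂ) (evenMod (χ * χ))
    (fun a ha b hb => evenMod_mul ha hb) f (fun y => (n y : AlgInt)) hf (fun y => by simp [hfy])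
  obtain ⟨a, ha⟩ := h2.2.2 1 (asp_of_char IsCharacter.one') fun _ => rfl
  have h3 : classInner (χ * χ) (fun _ => 1) = 1 := by
    have h3 := FS.classInner_conj_of_real hχ hr
    rw [classInner_eq_mul_conj_one χ] at h3
    simp only [Complex.conj_conj] at h3
    exact h3
  have h4 : ¬ 2 ∣ ∏ y, n y := by
    rw [Prime.dvd_finsetProd_iff Nat.prime_two.prime]
    rintro ⟨y, -, hy⟩
    exact hn y hy
  rw [← Nat.cast_prod, map_natCast, mul_one, ← nsmul_eq_mul, classInner_nsmul_left, h3,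
    mul_one] at ha
  have h5 : IsIntegral ℤ ((((∏ y, n y : ℕ) : ℚ) / 2 : ℚ) : ℂ) := by
    have : ((((∏ y, n y : ℕ) : ℚ) / 2 : ℚ) : ℂ) = a := by
      rw [Rat.cast_div, Rat.cast_natCast, ha]
      simp
    rw [this]
    exact a.2
  have h6 : IsIntegral ℤ (((∏ y, n y : ℕ) : ℚ) / 2) :=
    (isIntegral_algebraMap_iff (algebraMap ℚ ℂ).injective).1 h5
  obtain ⟨z, hz⟩ := IsIntegrallyClosed.isIntegral_iff.1 h6
  apply h4
  have h7 : ((∏ y, n y : ℕ) : ℤ) = 2 * z := by
    have : (((∏ y, n y : ℕ) : ℤ) : ℚ) = 2 * z := by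
      rw [show (z : ℚ) = algebraMap ℤ ℚ z from rfl, hz]
      push_cast
      ring
    exact_mod_cast this
  exact Int.natCast_dvd_natCast.1 ⟨z, h7⟩

/-- The Brauer–Witt reduction, with the dihedral case removed. -/
theorem NoQ.brauerWitt' [Finite G]
    (h : ∀ (x : G) (P : Subgroup G), Odd (orderOf x) → IsPGroup 2 P →
      (∀ p ∈ P, p * x * p⁻¹ = x ∨ p * x * p⁻¹ = x⁻¹) → (∃ p ∈ P, p ≠ 1 ∧ p * x * p⁻¹ = x) →
      ∃ K : Subgroup G, x ∈ K ∧ P ≤ K ∧ NoQ K) : NoQ G := by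
  refine NoQ.brauerWitt fun x P hx hP hpm => ?_
  by_cases h0 : ∃ p ∈ P, p ≠ 1 ∧ p * x * p⁻¹ = x
  · exact h x P hx hP hpm h0
  have hz : ∀ p ∈ P, ∀ c ∈ Subgroup.zpowers x, p = 1 ∨ p * c * p⁻¹ = c⁻¹ := by
    rintro p hp _ ⟨i, rfl⟩
    by_cases h1 : p = 1
    · exact Or.inl h1
    · have := (hpm p hp).resolve_left fun h2 => h0 ⟨p, hp, h1, h2⟩
      right
      simp only []
      rw [← conj_zpow, this, inv_zpow]
  have hn : ∀ p ∈ P, ∀ c ∈ Subgroup.zpowers x, p * c * p⁻¹ ∈ Subgroup.zpowers x :=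
    fun p hp c hc => by
      rcases hz p hp c hc with h1 | h1
      · simpa [h1] using hc
      · rw [h1]; exact Subgroup.inv_mem _ hc
  let K : Subgroup G :=
    { carrier := {g | ∃ c ∈ Subgroup.zpowers x, ∃ p ∈ P, g = c * p}
      one_mem' := ⟨1, Subgroup.one_mem _, 1, P.one_mem, by simp⟩
      mul_mem' := by
        rintro _ _ ⟨c, hc, p, hp, rfl⟩ ⟨c', hc', p', hp', rfl⟩
        exact ⟨_, Subgroup.mul_mem _ hc (hn p hp c' hc'), _, P.mul_mem hp hp', by group⟩
      inv_mem' := by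
        rintro _ ⟨c, hc, p, hp, rfl⟩
        exact ⟨_, hn _ (P.inv_mem hp) _ (Subgroup.inv_mem _ hc), _, P.inv_mem hp, by group⟩ }
  have hxK : Subgroup.zpowers x ≤ K := fun c hc => ⟨c, hc, 1, P.one_mem, by simp⟩
  refine ⟨K, hxK (Subgroup.mem_zpowers x), fun p hp => ⟨1, Subgroup.one_mem _, p, hp, by simp⟩,
    NoQ.of_odd_sub ((Subgroup.zpowers x).subgroupOf K) ?_ ?_⟩
  · rwa [Nat.card_congr (Subgroup.subgroupOfEquivOfLe hxK).toEquiv, Nat.card_zpowers]
  · rintro ⟨_, c, hc, p, hp, rfl⟩ hg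
    have h1 : p ≠ 1 := by
      rintro rfl
      exact hg (by simpa [Subgroup.mem_subgroupOf] using hc)
    have h2 := (hz p hp c hc).resolve_left h1
    have h3 := (hz p hp x (Subgroup.mem_zpowers x)).resolve_left h1
    have h4 : p * p = 1 := by
      by_contra h5
      refine h0 ⟨p * p, P.mul_mem hp hp, h5, ?_⟩
      calc p * p * x * (p * p)⁻¹ = p * (p * x * p⁻¹) * p⁻¹ := by group
        _ = x := by rw [h3, conj_inv_of h3]
    apply Subtype.ext
    calc c * p * (c * p) = c * (p * c * p⁻¹) * (p * p) := by group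
      _ = 1 := by rw [h2, h4]; group

end Cfsg.Agent.Fs
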