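import Mathlib
import Cfsg.Agent.Fs.NoQ
import Cfsg.Agent.Ch.Extension
import Cfsg.Agent.Ch.Clifford
import Cfsg.Agent.GT.TransferCocycle

/-!
# Clifford theory for the indicator: linear characters and real extensions
-/

set_option autoImplicit false
open Cfsg ComplexConjugate

namespace Cfsg.Agent.Fs
open Cfsg.Agent.Ch

variable {G : Type*} [Group G] {L : Type*} [Group L]

theorem conj_eq_of_real {χ : G → ℂ} (h : ∀ g, (χ g).im = 0) (g : G) : conj (χ g) = χ g :=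
  Complex.conj_eq_iff_im.2 (h g)

/-- Characters over an invariant character with an extension of indicator `1`. -/
theorem fsInd_ne_of_ext [Fintype G] {N : Subgroup G} [N.Normal] [Fintype N] (hQ : NoQ (G ⧸ N))
    {η : G → ℂ} (hη : IsCharacter G η) (hηN : IsIrrCharacter N fun n : N => η n)
    (h1 : fsInd η = 1) {χ : G → ℂ} (hχ : IsIrrCharacter G χ)
    (h : classInner (fun n : N => χ n) (fun n : N => η n) ≠ 0) : fsInd χ ≠ -1 := by
  classical
  intro hm
  have := Fintype.ofFinite (G ⧸ N)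
  have hηi : IsIrrCharacter G η := IsIrrCharacter.of_restrict N hη hηN
  have hr := real_of_neg_one hχ hm
  have hηr := real_of_fsInd_ne hηi (by rw [h1]; norm_num)
  obtain ⟨β, hβ, hb⟩ := gallagher_surj_quotient hη hηN hχ h
  have hβr : ∀ x, (β x).im = 0 := by
    have h2 := gallagher_inj hη hηN hβ.complexConj.comp_mk
      (le_charKer_comp_mk N fun x => conj (β x)) hβ.comp_mk
      (le_charKer_comp_mk N _) (by
        funext g
        simp only [Pi.mul_apply]
        rw [← hb, ← conj_eq_of_real hr g, hb, map_mul, conj_eq_of_real hηr])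
    intro x
    obtain ⟨g, rfl⟩ := QuotientGroup.mk_surjective x
    exact Complex.conj_eq_iff_im.1 (congrFun h2 g)
  have h3 := RC.fsInd_eq_of_odd_classInner (isIrrCharacter_prod hβ hηi)
    (fun x => by simp [hβr, hηr]) hχ hr ((QuotientGroup.mk' N).prod (MonoidHom.id G)) (m := 1)
    (by
      have : (fun x => β ((QuotientGroup.mk' N).prod (MonoidHom.id G) x).1 *
          η ((QuotientGroup.mk' N).prod (MonoidHom.id G) x).2) = χ := funext fun g => (hb g).symm
      rw [this, Nat.cast_one]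
      exact (hχ.isCharacter.isIrr_iff_classInner_self).1 hχ) odd_one
  rw [RC.fsInd_prod, h1, mul_one, hm] at h3
  exact hQ.out β hβ h3

/-- An invariant linear character extends trivially over a complement. -/
theorem exists_ext_lin {N : Subgroup G} [hN : N.Normal] (lam : N →* ℂˣ)
    (hinv : ∀ (g : G) (n : N), lam ⟨g * n * g⁻¹, hN.conj_mem n n.2 g⟩ = lam n) (j : L →* G)
    (hgen : ∀ g, ∃ l, g * (j l)⁻¹ ∈ N) (hinj : ∀ l, j l ∈ N → j l = 1) :
    ∃ Λ : G →* ℂˣ, (∀ n : N, Λ n = lam n) ∧ ∀ g, ∃ n, Λ g = lam n := by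
  choose l hl using hgen
  have key : ∀ g l', (h : g * (j l')⁻¹ ∈ N) → lam ⟨_, hl g⟩ = lam ⟨_, h⟩ := fun g l' h => by
    have h2 : j (l g * l'⁻¹) ∈ N := by
      have := N.mul_mem (N.inv_mem (hl g)) h
      simpa [mul_assoc] using this
    have h3 := hinj _ h2
    rw [map_mul, map_inv, mul_inv_eq_one] at h3
    simp only [h3]
  refine ⟨MonoidHom.mk' (fun g => lam ⟨_, hl g⟩) fun g h => ?_, fun n => ?_, fun g => ⟨_, rfl⟩⟩
  · have e : g * h * (j (l g * l h))⁻¹ =
        g * (j (l g))⁻¹ * (j (l g) * (h * (j (l h))⁻¹) * (j (l g))⁻¹) := by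
      rw [map_mul]; group
    have h2 : g * h * (j (l g * l h))⁻¹ ∈ N := by
      rw [e]
      exact N.mul_mem (hl g) (hN.conj_mem _ (hl h) _)
    rw [key _ _ h2, ← hinv (j (l g)) ⟨_, hl h⟩, ← map_mul]
    congr 1
    exact Subtype.ext e
  · change lam ⟨_, hl n⟩ = lam n
    rw [key n 1 (by simp)]
    simp

section Lin
variable {N : Subgroup G} [hN : N.Normal] (lam : N →* ℂˣ) (hsq : ∀ n, lam n * lam n = 1)
  (j : L →* G) (hj : ∀ l, j l ∈ inertia N fun n => (lam n : ℂ))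
  (hgen : ∀ t ∈ inertia N fun n => (lam n : ℂ), ∃ l, t * (j l)⁻¹ ∈ N)
  (hinj : ∀ l, j l ∈ N → j l = 1)
include hsq hj hgen hinj

theorem exists_inertia_ext : ∃ Λ : inertia N (fun n => (lam n : ℂ)) →* ℂˣ,
    (∀ (n : N) (h : (n : G) ∈ inertia N fun n => (lam n : ℂ)), Λ ⟨n, h⟩ = lam n) ∧
      ∀ g, Λ (g * g) = 1 := by
  let T := inertia N fun n => (lam n : ℂ)
  have hNT : N ≤ T := le_inertia (isIrrCharacter_monoidHom_units lam).isClassFunction
  obtain ⟨Λ, h1, h2⟩ := exists_ext_lin (N := N.subgroupOf T)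
    (lam.comp (Subgroup.subgroupOfEquivOfLe hNT).toMonoidHom)
    (fun g n => Units.ext (mem_inertia.1 g.2 ⟨n, n.2⟩)) (j.codRestrict T hj)
    (fun g => hgen g g.2) fun l h => Subtype.ext (hinj l h)
  refine ⟨Λ, fun n h => h1 ⟨⟨n, h⟩, n.2⟩, fun g => ?_⟩
  obtain ⟨n, hn⟩ := h2 g
  rw [map_mul, hn]
  exact hsq _

/-- Characters over a real linear character of a normal subgroup. -/
theorem lin_case [Fintype G] [Fintype N] [Finite L] (hL : NoQ L) {χ : G → ℂ}
    (hχ : IsIrrCharacter G χ) (h : classInner (fun n : N => χ n) (fun n => (lam n : ℂ)) ≠ 0) :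
    fsInd χ ≠ -1 := by
  classical
  intro hm
  let T := inertia N fun n => (lam n : ℂ)
  have hθ := isIrrCharacter_monoidHom_units lam
  have hNT : N ≤ T := le_inertia hθ.isClassFunction
  obtain ⟨Λ, h1, h2⟩ := exists_inertia_ext lam hsq j hj hgen hinj
  obtain ⟨ψ, hψ, h3, rfl, -⟩ := clifford_corr_surj hθ (T := T) rfl hNT hχ h
  have hr := real_of_neg_one hχ hm
  have hlr : ∀ n, conj (lam n : ℂ) = lam n := fun n => by
    rw [conj_monoidHom_units, inv_eq_of_mul_eq_one_left]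
    rw [← Units.val_mul, hsq, Units.val_one]
  have hψr : ∀ x, (ψ x).im = 0 := by
    have h4 := clifford_corr_inj hθ (T := T) rfl hNT hψ.complexConj hψ (by
      have := classInner_conj_conj (fun n : N => ψ ⟨n, hNT n.2⟩) fun n => (lam n : ℂ)
      simp only [hlr] at this
      rw [this]
      simpa using h3) h3 (by
      rw [indFun_star]
      funext g
      exact conj_eq_of_real hr g)
    exact fun x => Complex.conj_eq_iff_im.1 (congrFun h4 x)
  rw [RC.fsInd_indFun T hψ hψr hχ] at hm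
  have hq : NoQ (T ⧸ N.subgroupOf T) := by
    refine hL.of_surj ((QuotientGroup.mk' _).comp (j.codRestrict T hj)) fun x => ?_
    obtain ⟨t, rfl⟩ := QuotientGroup.mk_surjective x
    obtain ⟨l, hl⟩ := hgen t t.2
    refine ⟨l, QuotientGroup.eq.2 ?_⟩
    have := hN.conj_mem _ hl (j l)⁻¹
    simpa [Subgroup.mem_subgroupOf, mul_assoc] using this
  let e := Subgroup.subgroupOfEquivOfLe hNT
  refine fsInd_ne_of_ext hq (isCharacter_monoidHom_units Λ)
    (isIrrCharacter_monoidHom_units (Λ.comp (N.subgroupOf T).subtype))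
    (RC.fsInd_hom_eq_one_iff.2 h2) hψ ?_ hm
  rw [← classInner_comp_mulEquiv e.symm]
  have h6 : (fun x : N => (Λ (e.symm x) : ℂ)) = fun g => (lam g : ℂ) :=
    funext fun n => congrArg Units.val (h1 n (hNT n.2))
  rw [h6]
  exact h3

/-- The monomial character over a real linear character. -/
theorem exists_mono [Fintype G] [Fintype N] : ∃ θ : G → ℂ, IsIrrCharacter G θ ∧ fsInd θ = 1 ∧
    classInner (fun n : N => θ n) (fun n => (lam n : ℂ)) = 1 := by
  classical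
  let T := inertia N fun n => (lam n : ℂ)
  have hθ := isIrrCharacter_monoidHom_units lam
  have hNT : N ≤ T := le_inertia hθ.isClassFunction
  obtain ⟨Λ, h1, h2⟩ := exists_inertia_ext lam hsq j hj hgen hinj
  have hΛ := isIrrCharacter_monoidHom_units Λ
  have h3 : classInner (fun n : N => (Λ ⟨n, hNT n.2⟩ : ℂ)) (fun n => (lam n : ℂ)) = 1 := by
    simp only [h1]
    exact (hθ.isCharacter.isIrr_iff_classInner_self).1 hθ
  have h4 := clifford_corr_irr hθ (T := T) rfl hNT hΛ (by rw [h3]; norm_num)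
  have h5 := RC.fsInd_hom_eq_one_iff.2 h2
  refine ⟨_, h4, ?_, ?_⟩
  · rw [RC.fsInd_indFun T hΛ (real_of_fsInd_ne hΛ (by rw [h5]; norm_num)) h4, h5]
  · rw [clifford_corr_mult hθ (T := T) rfl hNT hΛ (by rw [h3]; norm_num), h3]

end Lin

theorem exists_sq_root [Finite G] {H N : Subgroup G} [hN : N.Normal] (hNH : N ≤ H)
    (hodd : Odd H.index) (ν : G →* ℂˣ) (κ : H →* ℂˣ) (h : ∀ x : H, ν x = κ x * κ x)
    (hκ : ∀ x : H, (x : G) ∈ N → κ x = 1) :
    ∃ μ : G →* ℂˣ, (∀ g, ν g = μ g * μ g) ∧ ∀ n ∈ N, μ n = 1 := by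
  classical
  have := Fintype.ofFinite (G ⧸ H)
  obtain ⟨k, hk⟩ := hodd
  have h1 : ∀ g, MonoidHom.transfer κ g * MonoidHom.transfer κ g = ν g ^ H.index := fun g => by
    rw [GT.Tr.transfer_eq_prod_trCocycle, ← Finset.prod_mul_distrib]
    simp only [GT.Tr.trCocycle, ← h, map_mul, map_inv, Finset.prod_mul_distrib,
      Finset.prod_inv_distrib, Finset.prod_const]
    rw [(MulAction.bijective g).prod_comp fun q : G ⧸ H => ν q.out, Finset.card_univ,
      ← Nat.card_eq_fintype_card, mul_comm, mul_inv_cancel_left]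
    rfl
  refine ⟨MonoidHom.transfer κ * (ν ^ k)⁻¹, fun g => ?_, fun n hn => ?_⟩
  · simp only [MonoidHom.mul_apply, MonoidHom.inv_apply, MonoidHom.pow_apply]
    rw [mul_mul_mul_comm, h1, hk]
    group
  · have h2 : ν n = 1 := by rw [h ⟨n, hNH hn⟩, hκ _ hn, mul_one]
    have h3 := GT.Tr.transfer_eq_pow_of_conj κ ⟨n, hNH hn⟩ fun k t hk => by
      rw [hκ ⟨n, hNH hn⟩ hn, one_pow]
      refine hκ _ ?_
      simpa using hN.conj_mem _ (N.pow_mem hn k) t⁻¹
    simp only [MonoidHom.mul_apply, MonoidHom.inv_apply, MonoidHom.pow_apply]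
    rw [h3, hκ _ hn, h2]
    simp

/-- A real extension over a subgroup of odd index gives a real extension to the whole group. -/
theorem exists_real_ext [Fintype G] {N H : Subgroup G} [hN : N.Normal] [Fintype H] (hNH : N ≤ H)
    (h2 : IsPGroup 2 N) (hodd : Odd H.index) {θ : N → ℂ} (hθ : IsIrrCharacter N θ)
    (hinv : ∀ (g : G) (n : N), θ ⟨g * n * g⁻¹, hN.conj_mem n n.2 g⟩ = θ n) {θ₀ : H → ℂ}
    (hθ₀ : IsIrrCharacter H θ₀) (h1 : fsInd θ₀ = 1) (hext : ∀ n : N, θ₀ ⟨n, hNH n.2⟩ = θ n) :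
    ∃ η : G → ℂ, IsIrrCharacter G η ∧ fsInd η = 1 ∧ ∀ n : N, η n = θ n := by
  classical
  obtain ⟨η, hη, he⟩ := extends_of_primes hθ hinv fun p hp _ hd => by
    have : p = 2 := by
      obtain ⟨a, ha⟩ := h2.exists_card_eq
      obtain ⟨b, hb⟩ := RC.exists_charDegree_eq_pow h2 hθ
      have h3 : p ∣ 2 ^ a * 2 ^ b := by
        rw [← ha, ← hb]
        exact hd.trans (mul_dvd_mul_right hθ.isCharacter.detOrder_dvd_card _)
      rw [← pow_add] at h3
      exact (Nat.prime_dvd_prime_iff_eq hp Nat.prime_two).1 (hp.dvd_of_dvd_pow h3)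
    subst this
    exact ⟨H, hNH, θ₀, by rw [← even_iff_two_dvd]; exact Nat.not_even_iff_odd.2 hodd,
      hθ₀.isCharacter, hext⟩
  have hr₀ := real_of_fsInd_ne hθ₀ (by rw [h1]; norm_num)
  obtain ⟨ν, hν, hνe⟩ := exists_hom_mul_of_extends hθ hη.isCharacter hη.isCharacter.complexConj he
    fun n => by rw [he, ← hext, conj_eq_of_real hr₀]
  let e := Subgroup.subgroupOfEquivOfLe hNH
  have hθ' : IsIrrCharacter (N.subgroupOf H) fun n => θ₀ n := by
    convert hθ.comp_mulEquiv e using 2 with n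
    exact hext ⟨n, n.2⟩
  obtain ⟨κ, hκ, hκe⟩ := exists_hom_mul_of_extends hθ' hθ₀.isCharacter
    (hη.isCharacter.restrict H) (fun _ => rfl) fun n => (he ⟨n, n.2⟩).trans (hext ⟨n, n.2⟩).symm
  have hk : ∀ f : H →* ℂˣ, (∀ n ∈ N.subgroupOf H, f n = 1) →
      N.subgroupOf H ≤ charKer fun x => (f x : ℂ) := fun f hf n hn => by
    rw [charKer_monoidHom_units]
    exact hf n hn
  have h3 := gallagher_inj hθ₀.isCharacter hθ' (isIrrCharacter_monoidHom_units κ⁻¹)
    (hk _ fun n hn => by simp [hκ n hn]) (isIrrCharacter_monoidHom_units (ν.comp H.subtype * κ))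
    (hk _ fun n hn => by simp [hκ n hn, hν n hn]) (by
      funext x
      have h4 : conj (η x) = ν x * η x := congrFun hνe x
      have h5 : η x = κ x * θ₀ x := congrFun hκe x
      rw [h5, map_mul, conj_eq_of_real hr₀, conj_monoidHom_units'] at h4
      simp only [Pi.mul_apply, h4]
      simp [mul_assoc])
  have h4 : ∀ x : H, ν x = κ⁻¹ x * κ⁻¹ x := fun x => by
    have h5 : κ⁻¹ x = (ν.comp H.subtype * κ) x := Units.ext (congrFun h3 x)
    simp only [MonoidHom.inv_apply, MonoidHom.mul_apply, MonoidHom.comp_apply,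
      Subgroup.coe_subtype] at h5 ⊢
    rw [eq_mul_inv_iff_mul_eq, ← h5]
  obtain ⟨μ, hμ, hμN⟩ := exists_sq_root hNH hodd ν κ⁻¹ h4 fun x hx => by simp [hκ x hx]
  have hη' := hη.monoidHom_mul μ
  have hr : ∀ g, ((μ g : ℂ) * η g).im = 0 := fun g => by
    rw [← Complex.conj_eq_iff_im, map_mul, congrFun hνe g, hμ, conj_monoidHom_units]
    have : (μ g : ℂ) ≠ 0 := Units.ne_zero _
    push_cast
    field_simp
  have h5 : (fun x : H => (μ x : ℂ) * η x) = fun x => ((μ.comp H.subtype * κ) x : ℂ) * θ₀ x := by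
    funext x
    rw [congrFun hκe x]
    simp [mul_assoc]
  have h6 := hθ₀.monoidHom_mul (μ.comp H.subtype * κ)
  refine ⟨_, hη', ?_, fun n => by rw [hμN n n.2, he]; simp⟩
  rw [RC.fsInd_eq_of_odd_classInner hη' hr h6 (fun x => by rw [← congrFun h5 x]; exact hr x)
    H.subtype (m := 1) (by
      rw [Nat.cast_one, ← (h6.isCharacter.isIrr_iff_classInner_self).1 h6, ← h5]
      rfl) odd_one, RC.fsInd_hom_mul θ₀ fun x => ?_, h1]
  simp only [map_mul, MonoidHom.mul_apply, MonoidHom.comp_apply, Subgroup.coe_subtype]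
  rw [mul_mul_mul_comm, ← hμ, h4]
  simp [mul_assoc]

/-- Split extension of an elementary abelian `2`-group, in coordinates. -/
theorem NoQ.of_abelian [Finite G] [Finite L] {M : Type*} [AddCommGroup M] (a : M → G)
    (hadd : ∀ x y, a (x + y) = a x * a y) (h2 : ∀ x : M, x + x = 0) (j : L →* G)
    (act : L → M → M) (hact : ∀ l x, j l * a x * (j l)⁻¹ = a (act l x))
    (hgen : ∀ g, ∃ x l, g = a x * j l) (hinj : ∀ l x, j l = a x → j l = 1)
    (hst : ∀ φ : M → ℂˣ, (∀ x y, φ (x + y) = φ x * φ y) →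
      ∃ S : Subgroup L, NoQ S ∧ ∀ l, l ∈ S ↔ ∀ x, φ (act l x) = φ x) : NoQ G := by
  classical
  constructor
  intro _ χ hχ
  have h0 : a 0 = 1 := by simpa using hadd 0 0
  have hc : ∀ x y, a x * a y = a y * a x := fun x y => by rw [← hadd, ← hadd, add_comm]
  let N : Subgroup G :=
    { carrier := Set.range a
      one_mem' := ⟨0, h0⟩
      mul_mem' := by
        rintro _ _ ⟨x, rfl⟩ ⟨y, rfl⟩
        exact ⟨_, hadd x y⟩
      inv_mem' := by
        rintro _ ⟨x, rfl⟩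
        exact ⟨x, eq_inv_of_mul_eq_one_left (by rw [← hadd, h2, h0])⟩ }
  have hconj : ∀ y l x, a y * j l * a x * (a y * j l)⁻¹ = a (act l x) := fun y l x => by
    rw [← mul_inv_cancel_right (a (act l x)) (a y), hc, ← hact]
    group
  have hN : N.Normal := ⟨by
    rintro _ ⟨x, rfl⟩ g
    obtain ⟨y, l, rfl⟩ := hgen g
    exact ⟨_, (hconj y l x).symm⟩⟩
  obtain ⟨θ, hθ, h⟩ := exists_irr_under N hχ
  obtain ⟨lam, rfl⟩ := hθ.exists_monoidHom_of_comm (by
    rintro ⟨_, x, rfl⟩ ⟨_, y, rfl⟩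
    exact Subtype.ext (hc x y))
  obtain ⟨S, hS, hS'⟩ := hst (fun x => lam ⟨a x, x, rfl⟩) fun x y => by
    rw [← map_mul]
    exact congrArg _ (Subtype.ext (hadd x y))
  have key : ∀ y l, a y * j l ∈ inertia N (fun n => (lam n : ℂ)) ↔ l ∈ S := fun y l => by
    rw [mem_inertia, hS']
    constructor
    · intro h3 x
      have := h3 ⟨a x, x, rfl⟩
      simp only [hconj] at this
      exact Units.ext this
    · rintro h3 ⟨_, x, rfl⟩
      simp only [hconj]
      exact congrArg Units.val (h3 x)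
  refine lin_case lam ?_ (j.comp S.subtype) (fun l => ?_) (fun t ht => ?_) ?_ hS hχ h
  · rintro ⟨_, x, rfl⟩
    rw [← map_mul, ← map_one lam]
    exact congrArg _ (Subtype.ext (by simp [← hadd, h2, h0]))
  · simpa [h0] using (key 0 l).2 l.2
  · obtain ⟨y, l, rfl⟩ := hgen t
    exact ⟨⟨l, (key y l).1 ht⟩, y, by simp⟩
  · rintro l ⟨x, hx⟩
    exact hinj l x hx.symm

theorem scal_eq [Fintype G] {ξ η : G → ℂ} {z : G} {c d : ℂ} (h1 : ∀ g, ξ (z * g) = c * ξ g)
    (h2 : ∀ g, η (z * g) = d * η g) (hd : d * conj d = 1) (h : classInner ξ η ≠ 0) : c = d := by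
  have h3 := classInner_comp_equiv (Equiv.mulLeft z) ξ η
  simp only [Equiv.coe_mulLeft, h1, h2] at h3
  have h4 := classInner_smul_left c ξ (fun x => d * η x)
  have h5 := classInner_smul_right d ξ η
  have h6 : c * conj d = 1 := by
    refine mul_right_cancel₀ h ?_
    rw [one_mul, mul_assoc, ← h5]
    exact h4.symm.trans h3
  linear_combination d * h6 - c * hd

theorem exists_scal [Finite G] {χ : G → ℂ} (h : IsIrrCharacter G χ) {z : G}
    (hz : ∀ g, g * z = z * g) : ∃ c : ℂ, c * conj c = 1 ∧ ∀ g, χ (z * g) = c * χ g := by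
  obtain ⟨lam, h1, -⟩ := h.exists_center_hom
  exact ⟨lam ⟨z, Subgroup.mem_center_iff.2 hz⟩, monoidHom_units_mul_conj _ _,
    h1 ⟨z, Subgroup.mem_center_iff.2 hz⟩⟩

/-- Coordinates on a group of Heisenberg type. -/
structure Heis {M Z : Type*} [AddCommGroup M] [AddCommGroup Z] (e : M → Z → G) (β : M → M → Z) :
    Prop where
  mul : ∀ x z x' z', e x z * e x' z' = e (x + x') (z + z' + β x x')
  inj : ∀ x z x' z', e x z = e x' z' → x = x' ∧ z = z'
  m2 : ∀ x : M, x + x = 0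
  z2 : ∀ z : Z, z + z = 0
  bl : ∀ x, β 0 x = 0
  br : ∀ x, β x 0 = 0

namespace Heis
variable {M Z : Type*} [AddCommGroup M] [AddCommGroup Z] {e : M → Z → G} {β : M → M → Z}
  (h : Heis e β)
include h

theorem zero : e 0 0 = 1 := by simpa [h.bl] using h.mul 0 0 0 0

theorem zmul (z : Z) (x : M) (w : Z) : e 0 z * e x w = e x (z + w) := by
  rw [h.mul, h.bl, zero_add, add_zero]

theorem inv (x : M) (z : Z) : (e x z)⁻¹ = e x (z + β x x) := by
  refine inv_eq_of_mul_eq_one_right ?_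
  rw [h.mul, h.m2, ← add_assoc, h.z2, zero_add, h.z2, h.zero]

theorem comm (x : M) (z : Z) (y : M) (w : Z) :
    e x z * e y w * (e x z)⁻¹ = e 0 (β x y + β y x) * e y w := by
  rw [mul_inv_eq_iff_eq_mul, mul_assoc, h.mul, h.mul, h.zmul, add_comm y x]
  congr 1
  have := h.z2 (β y x)
  rw [← sub_eq_zero] at this ⊢
  rw [← neg_eq_zero, ← this]
  abel

/-- The subgroup with first coordinate in `M₀`. -/
def sub (M₀ : AddSubgroup M) : Subgroup G where
  carrier := {g | ∃ x ∈ M₀, ∃ z, g = e x z}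
  one_mem' := ⟨0, M₀.zero_mem, 0, h.zero.symm⟩
  mul_mem' := by
    rintro _ _ ⟨x, hx, z, rfl⟩ ⟨y, hy, w, rfl⟩
    exact ⟨_, M₀.add_mem hx hy, _, h.mul ..⟩
  inv_mem' := by
    rintro _ ⟨x, hx, z, rfl⟩
    exact ⟨x, hx, _, h.inv x z⟩

theorem mem_top (x : M) (z : Z) : e x z ∈ h.sub ⊤ := ⟨x, trivial, z, rfl⟩

theorem prop {lam : Z → ℂˣ} (hnd : ∀ x ≠ 0, ∃ y, lam (β x y + β y x) ≠ 1) {ξ ξ' : h.sub ⊤ → ℂ}
    (h1 : IsClassFunction _ ξ) (h1' : IsClassFunction _ ξ')
    (h2 : ∀ z g, ξ (⟨_, h.mem_top 0 z⟩ * g) = lam z * ξ g)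
    (h2' : ∀ z g, ξ' (⟨_, h.mem_top 0 z⟩ * g) = lam z * ξ' g) (g : h.sub ⊤) :
    ξ' 1 * ξ g = ξ 1 * ξ' g := by
  obtain ⟨_, x, hx, z, rfl⟩ := g
  by_cases h0 : x = 0
  · subst h0
    have e1 := h2 z 1
    have e2 := h2' z 1
    rw [mul_one] at e1 e2
    rw [e1, e2]
    ring
  · obtain ⟨y, hy⟩ := hnd x h0
    have key : ∀ ξ : h.sub ⊤ → ℂ, IsClassFunction _ ξ →
        (∀ z g, ξ (⟨_, h.mem_top 0 z⟩ * g) = lam z * ξ g) → ξ ⟨e x z, x, hx, z, rfl⟩ = 0 := by
      intro ξ h1 h2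
      have e1 := h1.conj_eq ⟨e x z, x, hx, z, rfl⟩ ⟨_, h.mem_top y 0⟩
      have e2 := h2 (β y x + β x y) ⟨e x z, x, hx, z, rfl⟩
      have e3 : (⟨_, h.mem_top y 0⟩ * ⟨e x z, x, hx, z, rfl⟩ * (⟨_, h.mem_top y 0⟩ : h.sub ⊤)⁻¹) =
          ⟨_, h.mem_top 0 (β y x + β x y)⟩ * ⟨e x z, x, hx, z, rfl⟩ := Subtype.ext (h.comm y 0 x z)
      rw [← e3, e1, add_comm] at e2
      by_contra h3
      exact hy (Units.ext (mul_right_cancel₀ h3 (by rw [← e2]; simp)))
    rw [key ξ h1 h2, key ξ' h1' h2', mul_zero, mul_zero]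

end Heis

/-- Split extension of a `2`-group of Heisenberg type, in coordinates. -/
theorem NoQ.of_heis [Finite G] [Finite L] {M Z : Type*} [AddCommGroup M] [AddCommGroup Z]
    {e : M → Z → G} {β : M → M → Z} (h : Heis e β) (j : L →* G) (act : L → M → M) (γ : L → M → Z)
    (hact : ∀ l x z, j l * e x z * (j l)⁻¹ = e (act l x) (z + γ l x))
    (hact0 : ∀ l, act l 0 = 0 ∧ γ l 0 = 0)
    (hgen : ∀ g, ∃ x z l, g = e x z * j l) (hinj : ∀ l x z, j l = e x z → j l = 1)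
    (hst : ∀ φ : M → ℂˣ, (∀ x y, φ (x + y) = φ x * φ y) →
      ∃ S : Subgroup L, NoQ S ∧ ∀ l, l ∈ S ↔ ∀ x, φ (act l x) = φ x)
    (L₀ : Subgroup L) (hodd : Odd L₀.index) (M₀ : AddSubgroup M)
    (hβ : ∀ x ∈ M₀, ∀ y ∈ M₀, β x y = 0) (hL₀ : ∀ l ∈ L₀, ∀ x ∈ M₀, act l x ∈ M₀ ∧ γ l x = 0)
    (hnd : ∀ lam : Z → ℂˣ, (∀ x y, lam (x + y) = lam x * lam y) → (∃ z, lam z ≠ 1) →
      (∀ x ≠ 0, ∃ y, lam (β x y + β y x) ≠ 1) ∧
        ∀ x ∉ M₀, ∃ y ∈ M₀, lam (β x y + β y x) ≠ 1) : NoQ G := by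
  classical
  constructor
  intro _ χ hχ
  let N := h.sub ⊤
  have hconj : ∀ y w l x z, e y w * j l * e x z * (e y w * j l)⁻¹ =
      e (act l x) (β y (act l x) + β (act l x) y + (z + γ l x)) := fun y w l x z => by
    rw [← h.zmul, ← h.comm y w, ← hact]
    group
  have hN : N.Normal := ⟨by
    rintro _ ⟨x, -, z, rfl⟩ g
    obtain ⟨y, w, l, rfl⟩ := hgen g
    exact ⟨_, trivial, _, hconj ..⟩⟩
  have hZ : ∀ z g, g * e 0 z = e 0 z * g := fun z g => by
    obtain ⟨y, w, l, rfl⟩ := hgen g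
    rw [← mul_inv_eq_iff_eq_mul, hconj, (hact0 l).1, (hact0 l).2, h.bl, h.br]
    simp
  obtain ⟨θ, hθ, hχθ⟩ := exists_irr_under N hχ
  choose c hc hcθ using fun z => exists_scal hθ (z := ⟨_, h.mem_top 0 z⟩)
    fun g => Subtype.ext (hZ z g)
  let lam : Z → ℂˣ := fun z => Units.mkOfMulEqOne _ _ (hc z)
  have hlam : ∀ x y, lam (x + y) = lam x * lam y := fun x y => by
    refine Units.ext (mul_right_cancel₀ hθ.apply_one_ne_zero ?_)
    change c (x + y) * θ 1 = c x * c y * θ 1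
    rw [mul_assoc, ← hcθ, ← hcθ, ← hcθ, ← mul_assoc]
    exact congrArg (fun t => θ (t * 1)) (Subtype.ext (h.zmul x 0 y).symm)
  have hlam0 : lam 0 = 1 := by simpa using hlam 0 0
  have hinj' : ∀ l, j l ∈ N → j l = 1 := by
    rintro l ⟨x, -, z, hx⟩
    exact hinj l x z hx
  by_cases h1 : ∃ z, lam z ≠ 1
  swap
  · have h1 : ∀ z, c z = 1 := fun z => by
      by_contra h2
      exact h1 ⟨z, fun h3 => h2 (congrArg Units.val h3)⟩
    have hk : ∀ z, (⟨_, h.mem_top 0 z⟩ : N) ∈ charKer θ := fun z g => by rw [hcθ, h1, one_mul]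
    obtain ⟨φ, rfl⟩ := hθ.isCharacter.exists_monoidHom_of_apply_one
      (hθ.apply_one_eq_one_iff_commutator_le.2 (Subgroup.commutator_le.2 (by
        rintro ⟨_, x, hx, z, rfl⟩ - ⟨_, y, hy, w, rfl⟩ -
        convert hk (β x y + β y x) using 1
        apply Subtype.ext
        change e x z * e y w * (e x z)⁻¹ * (e y w)⁻¹ = _
        rw [h.comm, mul_inv_cancel_right])))
    rw [charKer_monoidHom_units] at hk
    have hφ : ∀ x z (hx : e x z ∈ N), φ ⟨e x z, hx⟩ = φ ⟨e x 0, h.mem_top x 0⟩ := fun x z hx => by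
      rw [← one_mul (φ ⟨e x 0, _⟩), ← MonoidHom.mem_ker.1 (hk z), ← map_mul]
      exact congrArg _ (Subtype.ext (by simp [h.zmul]))
    obtain ⟨S, hS, hS'⟩ := hst (fun x => φ ⟨e x 0, h.mem_top x 0⟩) fun x y => by
      rw [← map_mul, ← hφ _ (0 + 0 + β x y) (h.mem_top ..)]
      exact congrArg _ (Subtype.ext (h.mul ..).symm)
    have key : ∀ y w l, e y w * j l ∈ inertia N (fun n => (φ n : ℂ)) ↔ l ∈ S := fun y w l => by
      rw [mem_inertia, hS']
      constructor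
      · intro h3 x
        have := h3 ⟨_, h.mem_top x 0⟩
        simp only [hconj] at this
        rw [hφ] at this
        exact Units.ext this
      · rintro h3 ⟨_, x, hx, z, rfl⟩
        simp only [hconj]
        rw [hφ]
        exact congrArg Units.val ((h3 x).trans (hφ x z (h.mem_top x z)).symm)
    refine lin_case φ ?_ (j.comp S.subtype) (fun l => ?_) (fun t ht => ?_)
      (fun l => hinj' l) hS hχ hχθ
    · rintro ⟨_, x, hx, z, rfl⟩
      rw [← map_mul, ← MonoidHom.mem_ker.1 (hk (z + z + β x x))]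
      exact congrArg _ (Subtype.ext (by simp [h.mul, h.m2]))
    · simpa [h.zero] using (key 0 0 l).2 l.2
    · obtain ⟨y, w, l, rfl⟩ := hgen t
      exact ⟨⟨l, (key y w l).1 ht⟩, y, trivial, w, by simp⟩
  obtain ⟨hnd1, hnd2⟩ := hnd lam hlam h1
  let f : L →* G ⧸ N := (QuotientGroup.mk' N).comp j
  have hf : Function.Surjective f := fun x => by
    obtain ⟨g, rfl⟩ := QuotientGroup.mk_surjective x
    obtain ⟨y, w, l, rfl⟩ := hgen g
    refine ⟨l, QuotientGroup.eq.2 ?_⟩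
    simpa [mul_assoc] using hN.conj_mem _ (h.mem_top y w) (j l)⁻¹
  have hL : NoQ L := by
    obtain ⟨S, hS, hS'⟩ := hst (fun _ => 1) (by simp)
    exact hS.of_surj S.subtype fun l => ⟨⟨l, (hS' l).2 fun _ => rfl⟩, rfl⟩
  let K := (L₀.map f).comap (QuotientGroup.mk' N)
  have hKodd : Odd K.index := by
    rw [Subgroup.index_comap_of_surjective _ (QuotientGroup.mk'_surjective N)]
    exact hodd.of_dvd_nat (Subgroup.index_map_dvd L₀ hf)
  have hNK : N ≤ K := fun n hn => ⟨1, L₀.one_mem, by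
    rw [map_one]; exact ((QuotientGroup.eq_one_iff n).2 hn).symm⟩
  have hjK : ∀ l : L₀, j l ∈ K := fun l => ⟨l, l.2, rfl⟩
  have hK : ∀ g ∈ K, ∃ y w, ∃ l ∈ L₀, g = e y w * j l := by
    rintro g ⟨l, hl, hg⟩
    have h2 : (j l)⁻¹ * g ∈ N := QuotientGroup.eq.1 hg
    obtain ⟨y, -, w, hy⟩ := hN.conj_mem _ h2 (j l)
    exact ⟨y, w, l, hl, by rw [← hy]; group⟩
  let A := (h.sub M₀).subgroupOf K
  have hA : A.Normal := ⟨by
    rintro ⟨_, hn⟩ ⟨x, hx, z, rfl⟩ ⟨g, hg⟩
    obtain ⟨y, w, l, hl, rfl⟩ := hK g hg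
    exact ⟨_, (hL₀ l hl x hx).1, _, hconj ..⟩⟩
  let zc : G → Z := fun g => if hg : ∃ p : M × Z, g = e p.1 p.2 then hg.choose.2 else 0
  have hzc : ∀ x z, zc (e x z) = z := fun x z => by
    have hg : ∃ p : M × Z, e x z = e p.1 p.2 := ⟨(x, z), rfl⟩
    simp only [zc, dif_pos hg]
    exact (h.inj _ _ _ _ hg.choose_spec).2.symm
  have hAm : ∀ a : A, ∃ x ∈ M₀, ∃ z, ((a : K) : G) = e x z := fun a => a.2
  let μ : A →* ℂˣ := MonoidHom.mk' (fun a => lam (zc a)) (by
    intro a b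
    obtain ⟨x, hx, z, ha⟩ := hAm a
    obtain ⟨y, hy, w, hb⟩ := hAm b
    change lam (zc (a * b)) = _
    rw [ha, hb, h.mul, hzc, hzc, hzc, hβ x hx y hy, add_zero, hlam])
  have hμ : ∀ a : A, μ a = lam (zc a) := fun _ => rfl
  obtain ⟨θ₀, hθ₀, hfs, hin⟩ := exists_mono μ (by
      intro a
      rw [hμ, ← hlam, h.z2, hlam0]) ((j.comp L₀.subtype).codRestrict K hjK) (by
      intro l
      rw [mem_inertia]
      intro a
      obtain ⟨x, hx, z, ha⟩ := hAm a
      change (lam (zc (j l * a * (j l)⁻¹)) : ℂ) = lam (zc a)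
      rw [ha, hact, hzc, hzc, (hL₀ l l.2 x hx).2, add_zero]) (by
      rintro ⟨t, ht⟩ hti
      obtain ⟨y, w, l, hl, rfl⟩ := hK t ht
      refine ⟨⟨l, hl⟩, y, ?_, w, mul_inv_cancel_right _ _⟩
      by_contra hy
      obtain ⟨x, hx, hxy⟩ := hnd2 y hy
      have h2 := hL₀ l⁻¹ (L₀.inv_mem hl) x hx
      have h3 := mem_inertia.1 hti ⟨⟨_, hNK (h.mem_top (act l⁻¹ x) 0)⟩, _, h2.1, 0, rfl⟩
      have h4 : j l * e (act l⁻¹ x) 0 * (j l)⁻¹ = e x 0 := by
        have := hact l⁻¹ x 0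
        rw [h2.2, add_zero] at this
        rw [← this, map_inv]
        group
      change (lam (zc (e y w * j l * e (act l⁻¹ x) 0 * (e y w * j l)⁻¹)) : ℂ) =
        lam (zc (e (act l⁻¹ x) 0)) at h3
      rw [show e y w * j l * e (act l⁻¹ x) 0 * (e y w * j l)⁻¹ =
        e y w * (j l * e (act l⁻¹ x) 0 * (j l)⁻¹) * (e y w)⁻¹ by group, h4, h.comm, h.zmul, hzc,
        hzc, add_zero, hlam0] at h3
      exact hxy (Units.ext h3)) (by
      rintro l ⟨x, -, z, hx⟩
      exact Subtype.ext (hinj l x z hx))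
  have hθ₀z : ∀ z (g : K), θ₀ (⟨_, hNK (h.mem_top 0 z)⟩ * g) = lam z * θ₀ g := fun z => by
    obtain ⟨d, hd, hd'⟩ := exists_scal hθ₀ (z := ⟨_, hNK (h.mem_top 0 z)⟩)
      fun g => Subtype.ext (hZ z g)
    have := scal_eq (ξ := fun a : A => θ₀ a) (η := fun a => (μ a : ℂ))
      (z := ⟨⟨_, hNK (h.mem_top 0 z)⟩, 0, M₀.zero_mem, z, rfl⟩) (c := d) (d := lam z)
      (fun g => hd' g) (fun g => by rw [map_mul, hμ, hzc, Units.val_mul]) (hc z)
      (by rw [hin]; norm_num)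
    rwa [← this]
  let i : N →* K := Subgroup.inclusion hNK
  have hξ := hθ₀.isCharacter.comp i
  have h3 := h.prop hnd1 hθ.isClassFunction hξ.isClassFunction hcθ fun z g => hθ₀z z (i g)
  have h4 : (fun n => θ₀ (i n)) = (θ₀ (i 1) / θ 1) • θ := funext fun n => by
    have := hθ.apply_one_ne_zero
    simp only [Pi.smul_apply, smul_eq_mul]
    field_simp
    rw [h3, mul_comm]
  obtain ⟨m, hm⟩ := hξ.exists_nat_classInner hθ.isCharacter
  rw [h4, classInner_smul_left, (hθ.isCharacter.isIrr_iff_classInner_self).1 hθ, mul_one] at hm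
  let i' : A →* N := (K.subtype.comp A.subtype).codRestrict N (by
    intro a
    obtain ⟨x, hx, z, ha⟩ := hAm a
    exact ⟨x, trivial, z, ha⟩)
  obtain ⟨m', hm'⟩ := (hθ.isCharacter.comp i').exists_nat_classInner
    (isCharacter_monoidHom_units μ)
  have h5 : (fun a : A => θ₀ a) = (m : ℂ) • fun a => θ (i' a) := funext fun a => by
    rw [← hm]
    exact congrFun h4 (i' a)
  rw [h5, classInner_smul_left, hm'] at hin
  have h6 : m = 1 := Nat.eq_one_of_mul_eq_one_right (n := m') (by exact_mod_cast hin)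
  rw [hm, h6, Nat.cast_one, one_smul] at h4
  have h2 : IsPGroup 2 N := by
    rintro ⟨_, x, hx, z, rfl⟩
    refine ⟨2, Subtype.ext ?_⟩
    change e x z ^ 4 = 1
    rw [show 4 = 2 * 2 from rfl, pow_mul, sq, sq, h.mul, h.m2, h.zmul, h.z2, h.zero]
  obtain ⟨η, hη, hη1, hηe⟩ := exists_real_ext hNK h2 hKodd hθ (fun g n => by
    have := h.prop hnd1 (isClassFunction_conjChar hθ.isClassFunction g) hθ.isClassFunction
      (fun z n => by
        rw [conjChar_apply, conjChar_apply, show (lam z : ℂ) = c z from rfl, ← hcθ]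
        refine congrArg _ (Subtype.ext ?_)
        change g * (e 0 z * n) * g⁻¹ = e 0 z * (g * n * g⁻¹)
        rw [← mul_assoc, hZ]
        group) hcθ n
    rw [conjChar_apply_one] at this
    exact mul_left_cancel₀ hθ.apply_one_ne_zero this) hθ₀ hfs fun n => congrFun h4 n
  have h7 : (fun n : N => η n) = θ := funext hηe
  exact fsInd_ne_of_ext (hL.of_surj f hf) hη.isCharacter (h7 ▸ hθ) hη1 hχ (h7 ▸ hχθ)

end Cfsg.Agent.Fs
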