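import Mathlib
import Cfsg.Agent.Fs.Cliff
import Cfsg.Agent.Cl.MaxOBasic

/-!
# Orthogonal groups in characteristic two: tools for the indicator induction
-/

set_option autoImplicit false
open Cfsg QuadraticMap Module

namespace Cfsg.Agent.Fs
open Cfsg.Agent.Ch Cfsg.Agent.Cl Cfsg.Agent.Cl.MaxO

section Grp
variable {G : Type*} [Group G] {H : Type*} [Group H]

theorem NoQ.of_inj (f : G →* H) (hf : Function.Injective f) {S : Subgroup H} (hS : NoQ S)
    (h1 : ∀ g, f g ∈ S) (h2 : ∀ s ∈ S, ∃ g, f g = s) : NoQ G :=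
  hS.of_equiv (MulEquiv.ofBijective (f.codRestrict S h1)
    ⟨fun _ _ h => hf (congrArg Subtype.val h), fun s => by
      obtain ⟨g, hg⟩ := h2 s s.2
      exact ⟨g, Subtype.ext hg⟩⟩).symm

theorem NoQ.prod_sub [Finite G] [Finite H] {S : Subgroup G} {T : Subgroup H} (hS : NoQ S)
    (hT : NoQ T) : NoQ (S.prod T) := (hS.prod hT).of_equiv (Subgroup.prodEquiv S T).symm

theorem NoQ.bw_sub [Finite G] (G₀ : Subgroup G)
    (h : ∀ x ∈ G₀, ∀ P ≤ G₀, Odd (orderOf x) → IsPGroup 2 P →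
      (∀ p ∈ P, p * x * p⁻¹ = x ∨ p * x * p⁻¹ = x⁻¹) → (∃ p ∈ P, p ≠ 1 ∧ p * x * p⁻¹ = x) →
      ∃ K ≤ G₀, x ∈ K ∧ P ≤ K ∧ NoQ K) : NoQ G₀ := by
  refine NoQ.brauerWitt' fun x P hx hP h1 h2 => ?_
  obtain ⟨K, hK, hxK, hPK, hQ⟩ := h x x.2 (P.map G₀.subtype) (Subgroup.map_subtype_le _)
    (by rwa [Subgroup.orderOf_coe]) (hP.map _) (by
      rintro _ ⟨p, hp, rfl⟩
      exact (h1 p hp).imp (congrArg Subtype.val) (congrArg Subtype.val)) (by
      obtain ⟨p, hp, hp1, hp2⟩ := h2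
      exact ⟨p, ⟨p, hp, rfl⟩, fun h3 => hp1 (Subtype.ext h3), congrArg Subtype.val hp2⟩)
  exact ⟨K.subgroupOf G₀, hxK, fun p hp => hPK ⟨p, hp, rfl⟩,
    hQ.of_equiv (Subgroup.subgroupOfEquivOfLe hK).symm⟩

end Grp

section Dual
variable {M : Type*} [AddCommGroup M]

/-- An additive character as a homomorphism. -/
def addHom (φ : M → ℂˣ) (h : ∀ x y, φ (x + y) = φ x * φ y) : Multiplicative M →* ℂˣ :=
  MonoidHom.mk' (fun x => φ x.toAdd) fun _ _ => h _ _

theorem exists_add_extend [Finite M] (A : AddSubgroup M) (φ : A → ℂˣ)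
    (h : ∀ x y, φ (x + y) = φ x * φ y) :
    ∃ φ' : M → ℂˣ, (∀ x y, φ' (x + y) = φ' x * φ' y) ∧ ∀ x : A, φ' x = φ x := by
  obtain ⟨Φ, hΦ⟩ := exists_monoidHom_units_extend (G := Multiplicative M) mul_comm
    (AddSubgroup.toSubgroup A) (MonoidHom.mk' (fun x => φ ⟨x.1.toAdd, x.2⟩) fun a b => h _ _)
  exact ⟨fun x => Φ (Multiplicative.ofAdd x), fun x y => by simp only [ofAdd_add, map_mul],
    fun x => hΦ ⟨Multiplicative.ofAdd x.1, x.2⟩⟩

variable (F : Type*) [Field F] [Finite F]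

theorem exists_psi : ∃ ψ : F → ℂˣ, (∀ x y, ψ (x + y) = ψ x * ψ y) ∧ ∃ a, ψ a ≠ 1 := by
  obtain ⟨f, hf⟩ := exists_monoidHom_units_ne_one_of_comm (G := Multiplicative F) mul_comm
    (g := Multiplicative.ofAdd 1) (by simp)
  exact ⟨fun x => f (Multiplicative.ofAdd x), fun x y => by simp only [ofAdd_add, map_mul], 1, hf⟩

variable {F} {V : Type*} [AddCommGroup V] [Module F V] {Q : QuadraticForm F V} {ψ : F → ℂˣ}

omit [Finite F] in
theorem psi_zero (h : ∀ x y, ψ (x + y) = ψ x * ψ y) : ψ 0 = 1 := by simpa using h 0 0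

omit [Finite F] in
theorem psi_scal (h1 : ∃ a, ψ a ≠ 1) {b : F} (h : ∀ a, ψ (a * b) = 1) : b = 0 := by
  by_contra hb
  obtain ⟨a, ha⟩ := h1
  exact ha (by simpa [hb] using h (a * b⁻¹))

omit [Finite F] in
theorem psi_sep (hQ : (polarBilin Q).Nondegenerate) (h : ∀ x y, ψ (x + y) = ψ x * ψ y)
    (h1 : ∃ a, ψ a ≠ 1) {y y' : V} (hy : ∀ x, ψ (polar Q x y) = ψ (polar Q x y')) : y = y' := by
  rw [← sub_eq_zero]
  refine o_eq_zero hQ fun x => psi_scal h1 fun a => ?_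
  have h2 := h (a * polar Q (y - y') x) (polar Q (a • x) y')
  have h3 : a * polar Q (y - y') x + polar Q (a • x) y' = polar Q (a • x) y := by
    simp only [oexp, polar_comm Q y, polar_comm Q y']
    ring
  rw [h3, hy] at h2
  simpa using h2

omit [Finite F] in
theorem exists_dual [Finite V] (hQ : (polarBilin Q).Nondegenerate)
    (h : ∀ x y, ψ (x + y) = ψ x * ψ y) (h1 : ∃ a, ψ a ≠ 1) (φ : V → ℂˣ)
    (hφ : ∀ x y, φ (x + y) = φ x * φ y) : ∃ y, ∀ x, φ x = ψ (polar Q x y) := by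
  let f : V → (Multiplicative V →* ℂˣ) := fun y =>
    addHom (fun x => ψ (polar Q x y)) fun a b => by rw [polar_add_left, h]
  have hf : Function.Injective f := fun y y' e =>
    psi_sep hQ h h1 fun x => DFunLike.congr_fun e (Multiplicative.ofAdd x)
  have hb := hf.bijective_of_nat_card_le (by rw [card_monoidHom_units_of_comm]; rfl)
  obtain ⟨y, hy⟩ := hb.2 (addHom φ hφ)
  exact ⟨y, fun x => (DFunLike.congr_fun hy (Multiplicative.ofAdd x)).symm⟩

end Dual

variable {F V : Type*} [Field F] [AddCommGroup V] [Module F V] {Q : QuadraticForm F V}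

instance finOG [Finite V] : Finite (OG Q) :=
  Finite.of_injective (fun g : OG Q => (g.1 : V → V)) fun _ _ h => OG.ext (congrFun h)

section Two
variable [CharP F 2]

theorem two0 : (2 : F) = 0 := CharTwo.two_eq_zero

include F in
theorem vadd_self (x : V) : x + x = 0 := by rw [← two_smul F, two0, zero_smul]

include F in
theorem vneg (x : V) : -x = x := neg_eq_of_add_eq_zero_left (vadd_self (F := F) x)

include F in
theorem vsub (x y : V) : x - y = x + y := by rw [sub_eq_add_neg, vneg (F := F)]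

theorem pself (x : V) : polar Q x x = 0 := by rw [o_polar_self, two0, zero_mul]

theorem exists_sq [Finite F] (a : F) : ∃ b, b ^ 2 = a :=
  (bijective_frobenius F 2).2 a

theorem sq_inj {a b : F} (h : a ^ 2 = b ^ 2) : a = b := frobenius_inj F 2 h

end Two

/-- Fixed vectors of a `2`-group. -/
theorem exists_fixed [Finite V] {P : Subgroup (OG Q)} (hP : IsPGroup 2 P) (X : Set V)
    (hX : ∀ p ∈ P, ∀ x ∈ X, p.1 x ∈ X) (h0 : 0 ∈ X) (σ : V → V) (h1 : ∀ x ∈ X, σ x ∈ X)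
    (h2 : ∀ x ∈ X, σ (σ x) = x) (h3 : ∀ x ∈ X, σ x ≠ x) :
    ∃ x ∈ X, x ≠ 0 ∧ ∀ p ∈ P, p.1 x = x := by
  classical
  letI : MulAction P X :=
    { smul := fun p x => ⟨p.1.1 x, hX p p.2 x x.2⟩
      one_smul := fun _ => rfl
      mul_smul := fun _ _ _ => rfl }
  have := Fintype.ofFinite X
  have hc : 2 ∣ Nat.card X := by
    have := Finset.sum_involution (s := (Finset.univ : Finset X)) (f := fun _ => (1 : ZMod 2))
      (fun a _ => ⟨σ a, h1 a a.2⟩) (fun _ _ => rfl) (fun a _ _ h => h3 a a.2 (congrArg Subtype.val h))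
      (fun _ _ => Finset.mem_univ _) fun a _ => Subtype.ext (h2 a a.2)
    rw [Finset.sum_const, nsmul_one, Finset.card_univ, ← Nat.card_eq_fintype_card] at this
    exact (ZMod.natCast_eq_zero_iff _ _).1 this
  obtain ⟨b, hb, hb0⟩ := hP.exists_fixed_point_of_prime_dvd_card_of_fixed_point X hc
    (a := ⟨0, h0⟩) fun p => Subtype.ext (map_zero p.1.1)
  exact ⟨b, b.2, fun h => hb0 (Subtype.ext h.symm), fun p hp => congrArg Subtype.val (hb ⟨p, hp⟩)⟩

theorem exists_fixed_sub [Finite V] [CharP F 2] {P : Subgroup (OG Q)} (hP : IsPGroup 2 P)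
    (S : Submodule F V) (hS : ∀ p ∈ P, ∀ x ∈ S, p.1 x ∈ S) {s : V} (hs : s ∈ S) (h0 : s ≠ 0) :
    ∃ x ∈ S, x ≠ 0 ∧ ∀ p ∈ P, p.1 x = x :=
  exists_fixed hP S hS S.zero_mem (· + s) (fun _ hx => S.add_mem hx hs)
    (fun x _ => by simp only [add_assoc, vadd_self (F := F), add_zero]) fun x _ => by simpa using h0

variable (Q) in
/-- The elements multiplying `v` by a scalar from `D`. -/
def Lin (D : Subgroup Fˣ) (v : V) : Subgroup (OG Q) where
  carrier := {g | ∃ a ∈ D, g.1 v = (a : F) • v}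
  one_mem' := ⟨1, D.one_mem, by simp⟩
  mul_mem' := by
    rintro g h ⟨a, ha, hg⟩ ⟨b, hb, hh⟩
    exact ⟨a * b, D.mul_mem ha hb, by rw [OG.mul_app, hh, map_smul, hg, smul_smul, mul_comm]; simp⟩
  inv_mem' := by
    rintro g ⟨a, ha, hg⟩
    exact ⟨a⁻¹, D.inv_mem ha, by rw [OG.inv_app_eq_iff, map_smul, hg, smul_smul]; simp⟩

theorem mem_Lin {D : Subgroup Fˣ} {v : V} {g : OG Q} :
    g ∈ Lin Q D v ↔ ∃ a ∈ D, g.1 v = (a : F) • v := Iff.rfl

theorem mem_Lin_bot {v : V} {g : OG Q} : g ∈ Lin Q ⊥ v ↔ g.1 v = v := by simp [mem_Lin]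

theorem mem_Lin_of_ne [CharP F 2] {D : Subgroup Fˣ} {v : V} (hv : Q v ≠ 0) {g : OG Q} :
    g ∈ Lin Q D v ↔ g.1 v = v := by
  refine ⟨?_, fun h => ⟨1, D.one_mem, by simpa using h⟩⟩
  rintro ⟨a, -, ha⟩
  have h1 := OG.map_app g v
  rw [ha, o_qsmul] at h1
  have h2 : (a : F) = 1 := sq_inj (mul_right_cancel₀ hv (by rw [h1]; ring))
  rw [ha, h2, one_smul]

variable (Q) in
/-- The elements fixing `v` and moving `w` by a multiple of `v` from `E`. -/
def Cos (v w : V) (E : AddSubgroup F) : Subgroup (OG Q) where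
  carrier := {g | g.1 v = v ∧ ∃ e ∈ E, g.1 w = w + e • v}
  one_mem' := ⟨rfl, 0, E.zero_mem, by simp⟩
  mul_mem' := by
    rintro g h ⟨hg, a, ha, hg'⟩ ⟨hh, b, hb, hh'⟩
    exact ⟨by rw [OG.mul_app, hh, hg], a + b, E.add_mem ha hb, by
      rw [OG.mul_app, hh', map_add, map_smul, hg, hg', add_smul, add_assoc]⟩
  inv_mem' := by
    rintro g ⟨hg, a, ha, hg'⟩
    exact ⟨by rw [OG.inv_app_eq_iff, hg], -a, E.neg_mem ha, by
      rw [OG.inv_app_eq_iff, map_add, map_smul, hg, hg']; simp⟩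

theorem mem_Cos {v w : V} {E : AddSubgroup F} {g : OG Q} :
    g ∈ Cos Q v w E ↔ g.1 v = v ∧ ∃ e ∈ E, g.1 w = w + e • v := Iff.rfl

variable {U : Type*} [AddCommGroup U] [Module F U]

variable (Q) in
/-- The pairs intertwined by `Y`. -/
def St (N : QuadraticForm F U) (Y : U →ₗ[F] V) : Subgroup (OG N × OG Q) where
  carrier := {p | ∀ u, p.2.1 (Y u) = Y (p.1.1 u)}
  one_mem' := fun _ => rfl
  mul_mem' := fun {a b} ha hb u => by
    rw [Prod.snd_mul, OG.mul_app, hb, ha]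
    rfl
  inv_mem' := fun {a} ha u => by
    rw [Prod.snd_inv, OG.inv_app_eq_iff, ha, Prod.fst_inv, OG.app_inv_app]

theorem mem_St {N : QuadraticForm F U} {Y : U →ₗ[F] V} {p : OG N × OG Q} :
    p ∈ St Q N Y ↔ ∀ u, p.2.1 (Y u) = Y (p.1.1 u) := Iff.rfl

/-- Restriction to an invariant subspace. -/
noncomputable def ores [FiniteDimensional F V] {S : Submodule F V} (g : OG Q)
    (hg : ∀ x ∈ S, g.1 x ∈ S) : OG (Q.restrict S) :=
  ⟨LinearEquiv.ofInjectiveEndo ((g.1 : V →ₗ[F] V).restrict hg)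
    fun _ _ h => Subtype.ext (g.1.injective (congrArg Subtype.val h)), fun v => g.2 v⟩

@[simp] theorem ores_app [FiniteDimensional F V] {S : Submodule F V} (g : OG Q)
    (hg : ∀ x ∈ S, g.1 x ∈ S) (x : S) : ((ores g hg).1 x : V) = g.1 x := rfl

section Orth
variable {W : Type*} [AddCommGroup W] [Module F W] {Q₁ : QuadraticForm F U}
  {Q₂ : QuadraticForm F W}

theorem NoQ.of_orth [Finite U] [Finite W] (e : (U × W) ≃ₗ[F] V)
    (he : ∀ x, Q (e x) = (Q₁.prod Q₂) x) (h1 : (polarBilin Q₁).Nondegenerate)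
    {S : Subgroup (OG Q₁)} (hS : NoQ S) (h2 : NoQ (OG Q₂)) {K : Subgroup (OG Q)}
    (hK : ∀ g, g ∈ K ↔ ∃ s ∈ S, ∀ u, g.1 (e (u, 0)) = e (s.1 u, 0)) : NoQ K := by
  refine (hS.prod h2).of_range ((OG.congr e he).toMonoidHom.comp
    ((OG.prodHom Q₁ Q₂).comp (S.subtype.prodMap (MonoidHom.id _)))) (fun p => ?_) fun g hg => ?_
  · exact (hK _).2 ⟨p.1, p.1.2, fun u => by simp⟩
  · obtain ⟨s, hs, hg⟩ := (hK g).1 hg
    obtain ⟨k, hk⟩ := OG.mem_range_inr h1 ((OG.inl Q₁ Q₂ s)⁻¹ * (OG.congr e he).symm g) fun v => by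
      rw [OG.mul_app, OG.inv_app_eq_iff, OG.congr_symm_app, hg]
      simp [OG.inl_apply]
    refine ⟨(⟨s, hs⟩, k), ?_⟩
    change OG.congr e he (OG.prod s k) = g
    rw [OG.prod_eq_inl_mul_inr, hk]
    simp

theorem exists_orth [FiniteDimensional F V] (hQ : (polarBilin Q).Nondegenerate) (Y : U →ₗ[F] V)
    (hY : ∀ u, Q (Y u) = Q₁ u) (h1 : (polarBilin Q₁).Nondegenerate) :
    ∃ (W : Submodule F V) (e : (U × W) ≃ₗ[F] V), (∀ u w, e (u, w) = Y u + w) ∧
      (∀ x, Q (e x) = (Q₁.prod (Q.restrict W)) x) ∧ (polarBilin (Q.restrict W)).Nondegenerate ∧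
      finrank F W + finrank F U = finrank F V := by
  have hinj : Function.Injective Y := (injective_iff_map_eq_zero Y).2 fun u hu =>
    o_eq_zero h1 fun y => by rw [← o_polar_congr Y hY, hu, polar_zero_left]
  have hND : ND Q (LinearMap.range Y) := by
    rintro _ ⟨u, rfl⟩ h
    rw [o_eq_zero h1 (x := u) fun y => by rw [← o_polar_congr Y hY, h _ ⟨y, rfl⟩], map_zero]
  refine ⟨operp Q (LinearMap.range Y),
    (LinearEquiv.ofInjective Y hinj).prodCongr (LinearEquiv.refl F _) ≪≫ₗ splitE hND,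
    fun u w => by simp [splitE_apply], fun x => ?_, (hND.perp hQ).nondeg, ?_⟩
  · rw [LinearEquiv.trans_apply, splitE_form]
    simp [hY]
  · rw [← finrank_operp hQ (LinearMap.range Y), LinearMap.finrank_range_of_inj hinj]

theorem NoQ.of_emb [Finite V] [Finite U] (hQ : (polarBilin Q).Nondegenerate) (Y : U →ₗ[F] V)
    (hY : ∀ u, Q (Y u) = Q₁ u) (h1 : (polarBilin Q₁).Nondegenerate)
    (ih : ∀ W : Submodule F V, finrank F W + finrank F U = finrank F V →
      (polarBilin (Q.restrict W)).Nondegenerate → NoQ (OG (Q.restrict W)))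
    {S : Subgroup (OG Q₁)} (hS : NoQ S) {K : Subgroup (OG Q)}
    (hK : ∀ g, g ∈ K ↔ ∃ s ∈ S, ∀ u, g.1 (Y u) = Y (s.1 u)) : NoQ K := by
  obtain ⟨W, e, h2, h3, h4, h5⟩ := exists_orth hQ Y hY h1
  exact NoQ.of_orth e h3 h1 hS (ih W h5 h4) (by simpa [h2] using hK)

end Orth

section Plane
variable {N : QuadraticForm F U} [CharP F 2]

theorem plane_exp (h2 : finrank F U = 2) {f f' : U} (hf : polar N f f' = 1) (x : U) :
    x = polar N x f' • f + polar N x f • f' := by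
  have hli : LinearIndependent F ![f, f'] := by
    rw [LinearIndependent.pair_iff]
    intro s t h
    have h1 := congrArg (polar N f) h
    have h3 := congrArg (polar N f') h
    simp only [oexp, hf, polar_comm N f' f, two0] at h1 h3
    exact ⟨by simpa using h3, by simpa using h1⟩
  have hsp := hli.span_eq_top_of_card_eq_finrank (by simp [h2])
  have hx : x ∈ Submodule.span F (Set.range ![f, f']) := hsp ▸ Submodule.mem_top
  rw [Matrix.range_cons, Matrix.range_cons, Matrix.range_empty, Set.union_empty,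
    Set.singleton_union, Submodule.mem_span_pair] at hx
  obtain ⟨a, b, rfl⟩ := hx
  simp only [oexp, pself, hf, polar_comm N f' f, two0]
  simp

theorem plane_ext (h2 : finrank F U = 2) {f f' : U} (hf : polar N f f' = 1)
    {M : Type*} [AddCommGroup M] [Module F M] {A B : U →ₗ[F] M} (h1 : A f = B f)
    (h3 : A f' = B f') (x : U) : A x = B x := by
  rw [plane_exp h2 hf x, map_add, map_add, map_smul, map_smul, map_smul, map_smul, h1, h3]

end Plane

end Cfsg.Agent.Fs
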