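import Mathlib
import Cfsg.Agent.Fs.GeoA

/-!
# Stabilisers of singular vectors and lines
-/

set_option autoImplicit false
open Cfsg QuadraticMap Module

namespace Cfsg.Agent.Fs
open Cfsg.Agent.Ch Cfsg.Agent.Cl Cfsg.Agent.Cl.MaxO

variable {F V : Type*} [Field F] [AddCommGroup V] [Module F V] {Q : QuadraticForm F V}

variable (Q) in
/-- The complement of a hyperbolic plane. -/
abbrev hypW (v v' : V) : Submodule F V := operp Q (Submodule.span F {v, v'})

theorem mem_hypW {v v' x : V} : x ∈ hypW Q v v' ↔ polar Q v x = 0 ∧ polar Q v' x = 0 := by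
  rw [mem_operp_span]
  simp

/-- A hyperbolic pair in a non-degenerate space. -/
structure Hyp (Q : QuadraticForm F V) (v v' : V) : Prop where
  nd : (polarBilin Q).Nondegenerate
  l : Q v = 0
  r : Q v' = 0
  lr : polar Q v v' = 1

namespace Hyp
variable [Finite V] {v v' : V} (h : Hyp Q v v')
include h

theorem ndS : ND Q (Submodule.span F {v, v'}) := nd_span_pair (by simp [h.l, h.lr])

theorem ndW : ND Q (hypW Q v v') := h.ndS.perp h.nd

theorem lt : finrank F (hypW Q v v') < finrank F V := by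
  rw [← finrank_operp h.nd (Submodule.span F {v, v'}), lt_add_iff_pos_right, finrank_pos_iff,
    Submodule.nontrivial_iff_ne_bot]
  intro h0
  have : v = 0 := (Submodule.mem_bot F).1 (h0 ▸ Submodule.subset_span (by simp))
  simpa [this] using h.lr

theorem ext_v (k : OG (Q.restrict (hypW Q v v'))) : (oext h.ndW k).1 v = v :=
  oext_app_perp _ _ fun x hx => by rw [polar_comm, (mem_hypW.1 hx).1]

theorem ext_v' (k : OG (Q.restrict (hypW Q v v'))) : (oext h.ndW k).1 v' = v' :=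
  oext_app_perp _ _ fun x hx => by rw [polar_comm, (mem_hypW.1 hx).2]

theorem tor_w (a : F) (w : hypW Q v v') : (otor Q v v' a).1 w = w :=
  otor_perp a (mem_hypW.1 w.2).1 (mem_hypW.1 w.2).2

theorem ext {g k : OG Q} (h1 : g.1 v = k.1 v) (h2 : g.1 v' = k.1 v')
    (h3 : ∀ w : hypW Q v v', g.1 w = k.1 w) : g = k :=
  OG.ext_hyp h.l h.r h.lr h1 h2 fun w a b => h3 ⟨w, mem_hypW.2 ⟨a, b⟩⟩

/-- The Levi complement. -/
noncomputable def levi : Fˣ × OG (Q.restrict (hypW Q v v')) →* OG Q :=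
  MonoidHom.mk' (fun p => otor Q v v' p.1 * oext h.ndW p.2) fun a b => by
    refine h.ext ?_ ?_ fun w => ?_
    · simp [h.ext_v, otor_left h.l h.r h.lr, smul_smul, mul_comm]
    · simp [h.ext_v', otor_right h.l h.r h.lr, smul_smul, mul_comm]
    · simp only [OG.mul_app, oext_app_mem, h.tor_w, Prod.snd_mul]

theorem levi_v (p : Fˣ × OG (Q.restrict (hypW Q v v'))) : (h.levi p).1 v = (p.1 : F) • v := by
  simp [levi, h.ext_v, otor_left h.l h.r h.lr]

theorem levi_v' (p : Fˣ × OG (Q.restrict (hypW Q v v'))) :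
    (h.levi p).1 v' = (p.1 : F)⁻¹ • v' := by
  simp [levi, h.ext_v', otor_right h.l h.r h.lr]

theorem levi_w (p : Fˣ × OG (Q.restrict (hypW Q v v'))) (w : hypW Q v v') :
    (h.levi p).1 w = p.2.1 w := by
  simp only [levi, MonoidHom.mk'_apply, OG.mul_app, oext_app_mem, h.tor_w]

theorem eich_w (x w : hypW Q v v') : (eich Q v x).1 w = w - polar Q (w : V) x • v :=
  eich_app_of_polar_left h.l (mem_hypW.1 x.2).1 (by rw [polar_comm, (mem_hypW.1 w.2).1])

theorem decomp {g : OG Q} {a : Fˣ} (hg : g.1 v = (a : F) • v) :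
    ∃ (x : hypW Q v v') (k : OG _), g = eich Q v x * h.levi (a, k) := by
  have h1 : polar Q (g.1 v') v = (a : F)⁻¹ := by
    have := OG.polar_app g v v'
    rw [hg, h.lr, o_polar_smul_left, polar_comm] at this
    exact eq_inv_of_mul_eq_one_right this
  obtain ⟨x, hx, hx'⟩ := eich_exists_map (Q := Q) (u := v) (y := (a : F)⁻¹ • v') (y' := g.1 v') h.l
    (by simp [h.r, o_qsmul]) (by rw [h1, o_polar_smul_left, polar_comm, h.lr, mul_one])
    (by rw [o_polar_smul_left, polar_comm, h.lr]; simp)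
  let x' : hypW Q v v' := ⟨x + (-polar Q v' x) • v, mem_hypW.2 ⟨by simp [oexp, h.l, hx], by
    simp [oexp, polar_comm Q v' v, h.lr]⟩⟩
  have e : eich Q v x' = eich Q v x := eich_add_smul_self h.l hx _
  let k := (h.levi (a, 1))⁻¹ * ((eich Q v x)⁻¹ * g)
  have k1 : k.1 v = v := by
    rw [OG.mul_app, OG.inv_app_eq_iff, OG.mul_app, OG.inv_app_eq_iff, h.levi_v, map_smul,
      eich_app_self, hg]
  have k2 : k.1 v' = v' := by
    rw [OG.mul_app, OG.inv_app_eq_iff, OG.mul_app, OG.inv_app_eq_iff, h.levi_v', hx']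
  have k3 : ∀ w ∈ hypW Q v v', k.1 w ∈ hypW Q v v' := fun w hw => by
    rw [mem_hypW] at hw ⊢
    rw [← OG.polar_app k, k1] at hw
    rwa [← OG.polar_app k v', k2] at hw
  have k4 : k = h.levi (1, ores k k3) :=
    h.ext (by simp [k1, h.levi_v]) (by simp [k2, h.levi_v']) fun w => by rw [h.levi_w, ores_app]
  refine ⟨x', ores k k3, ?_⟩
  rw [e, show (a, ores k k3) = (a, 1) * (1, ores k k3) by simp, map_mul, ← k4]
  simp [k]

variable [CharP F 2] {ψ : F → ℂˣ}

theorem par (hψ : ∀ x y, ψ (x + y) = ψ x * ψ y) (hψ1 : ∃ a, ψ a ≠ 1)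
    (L : Subgroup (Fˣ × OG (Q.restrict (hypW Q v v')))) (M : AddSubgroup (hypW Q v v'))
    (hLM : ∀ l ∈ L, ∀ x ∈ M, (l.1 : F) • l.2.1 x ∈ M) {K : Subgroup (OG Q)}
    (hK : ∀ g, g ∈ K ↔ ∃ x ∈ M, ∃ l ∈ L, g = eich Q v x * h.levi l)
    (hst : ∀ y : hypW Q v v', ∃ S : Subgroup L, NoQ S ∧ ∀ l, l ∈ S ↔ ∀ x ∈ M,
      ψ (polar (Q.restrict _) x ((l.1.1 : F) • (l.1.2⁻¹).1 y)) = ψ (polar (Q.restrict _) x y)) :
    NoQ K := by
  have : Finite F := Finite.of_injective (fun a : F => a • v) (smul_left_injective F (by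
    rintro rfl
    simpa using h.lr))
  refine NoQ.of_abelian (M := M) (L := L)
    (fun x => ⟨eich Q v x.1, (hK _).2 ⟨x, x.2, 1, L.one_mem, by simp⟩⟩)
    (fun x y => Subtype.ext (eich_mul h.l (mem_hypW.1 x.1.2).1 (mem_hypW.1 y.1.2).1).symm)
    (fun x => Subtype.ext (vadd_self (F := F) x.1))
    ((h.levi.comp L.subtype).codRestrict K fun l => (hK _).2 ⟨0, M.zero_mem, l, l.2, by simp⟩)
    (fun l x => ⟨_, hLM l l.2 x x.2⟩) (fun l x => Subtype.ext ?_) (fun g => ?_)
    (fun l x hl => ?_) fun φ hφ => ?_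
  · change h.levi l * eich Q v x.1 * (h.levi l)⁻¹ = eich Q v ((l.1.1 : F) • (l.1.2.1 x.1 : V))
    rw [conj_eich, h.levi_v, h.levi_w, eich_smul_left h.l (mem_hypW.1 (l.1.2.1 x.1).2).1]
  · obtain ⟨x, hx, l, hl, e⟩ := (hK g).1 g.2
    exact ⟨⟨x, hx⟩, ⟨l, hl⟩, Subtype.ext e⟩
  · have h1 : h.levi l = eich Q v x.1 := congrArg Subtype.val hl
    have h2 : x.1 = 0 := o_eq_zero h.ndW.nondeg fun y => by
      have h3 := congrArg (polar Q v') (h.eich_w x.1 y)
      rw [← h1, h.levi_w, (mem_hypW.1 (l.1.2.1 y).2).2] at h3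
      simpa [oexp, (mem_hypW.1 y.2).2, polar_comm Q v' v, h.lr, quad_polar_restrict,
        polar_comm Q (x.1 : V)] using h3
    exact Subtype.ext (h1.trans (by simp [h2]))
  · obtain ⟨φ', h1, h2⟩ := exists_add_extend M φ hφ
    obtain ⟨y, hy⟩ := exists_dual h.ndW.nondeg hψ hψ1 φ' h1
    obtain ⟨S, hS, hS'⟩ := hst y
    refine ⟨S, hS, fun l => ?_⟩
    simp only [hS', ← h2, hy, Subtype.forall, o_polar_smul_left, o_polar_smul_right,
      OG.polar_inv_right]

theorem lin [Finite F] (ih : ∀ D y, NoQ (Lin (Q.restrict (hypW Q v v')) D y)) (D : Subgroup Fˣ) :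
    NoQ (Lin Q D v) := by
  obtain ⟨ψ, hψ, hψ1⟩ := exists_psi F
  refine h.par hψ hψ1 (D.prod ⊤) ⊤ (fun _ _ _ _ => trivial) (fun g => ⟨?_, ?_⟩) fun y => ?_
  · rintro ⟨a, ha, hg⟩
    obtain ⟨x, k, e⟩ := h.decomp hg
    exact ⟨x, trivial, (a, k), ⟨ha, trivial⟩, e⟩
  · rintro ⟨x, -, l, hl, rfl⟩
    exact ⟨l.1, hl.1, by rw [OG.mul_app, h.levi_v, map_smul, eich_app_self]⟩
  · let S : Subgroup (D.prod (⊤ : Subgroup (OG (Q.restrict (hypW Q v v'))))) :=
      { carrier := {l | l.1.2.1 y = (l.1.1 : F) • y}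
        one_mem' := by simp
        mul_mem' := fun {a b} ha hb => by
          simp only [Set.mem_setOf_eq] at ha hb ⊢
          simp [ha, hb, smul_smul, mul_comm]
        inv_mem' := fun {a} ha => by
          simp only [Set.mem_setOf_eq] at ha ⊢
          change ((a.1.2)⁻¹).1 y = (a.1.1⁻¹ : Fˣ) • y
          rw [OG.inv_app_eq_iff, Units.smul_def, map_smul, ha, smul_smul]
          simp }
    have hS : ∀ l, l ∈ S ↔ l.1.2.1 y = (l.1.1 : F) • y := fun _ => Iff.rfl
    refine ⟨S, ?_, fun l => ?_⟩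
    · by_cases hy : y = 0
      · exact ((NoQ.of_comm fun a b : D => mul_comm a b).prod_sub
          ((ih ⊥ 0).of_eq (K := ⊤) (by simp [mem_Lin]))).top fun l => by simp [hS, hy]
      · refine NoQ.of_inj ((MonoidHom.snd _ _).comp ((Subgroup.subtype _).comp S.subtype))
          ((injective_iff_map_eq_one _).2 fun l hl => ?_) (ih D y) (fun l => ⟨_, l.1.2.1, l.2⟩) ?_
        · have h1 : l.1.1.2 = 1 := hl
          have h2 := (hS _).1 l.2
          rw [h1, OG.one_app] at h2
          have h3 : (l.1.1.1 : F) = 1 := smul_left_injective F hy (by simpa using h2.symm)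
          exact Subtype.ext (Subtype.ext (Prod.ext (Units.ext h3) h1))
        · rintro s ⟨a, ha, hs⟩
          exact ⟨⟨⟨(a, s), ha, trivial⟩, hs⟩, rfl⟩
    · rw [hS, ← map_smul]
      constructor
      · intro h1 x _
        rw [← h1, OG.inv_app_app]
      · intro h1
        exact (OG.inv_app_eq_iff _).1 (psi_sep h.ndW.nondeg hψ hψ1 fun x => h1 x trivial) |>.symm

theorem cos [Finite F] {w : V} (h1 : polar Q v w = 0) (h2 : polar Q v' w = 0) (hw : Q w ≠ 0)
    (ih : ∀ y E, NoQ (Cos (Q.restrict (hypW Q v v')) ⟨w, mem_hypW.2 ⟨h1, h2⟩⟩ y E))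
    (E : AddSubgroup F) : NoQ (Cos Q v w E) := by
  obtain ⟨ψ, hψ, hψ1⟩ := exists_psi F
  set w' : hypW Q v v' := ⟨w, mem_hypW.2 ⟨h1, h2⟩⟩ with hw'
  let M : AddSubgroup (hypW Q v v') := E.comap (polarBilin (Q.restrict _) w').toAddMonoidHom
  have hM : ∀ x, x ∈ M ↔ polar (Q.restrict _) w' x ∈ E := fun _ => Iff.rfl
  refine h.par hψ hψ1 ((⊥ : Subgroup Fˣ).prod (Lin _ ⊥ w')) M ?_ (fun g => ⟨?_, ?_⟩) fun y => ?_
  · rintro ⟨a, k⟩ ⟨ha, hk⟩ x hx
    obtain rfl : a = 1 := ha
    rw [hM] at hx ⊢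
    rwa [Units.val_one, one_smul, ← mem_Lin_bot.1 hk, OG.polar_app]
  · rintro ⟨hg, e, he, hg'⟩
    obtain ⟨x, k, rfl⟩ := h.decomp (g := g) (a := 1) (by simpa using hg)
    rw [OG.mul_app, show w = w' from rfl, h.levi_w, h.eich_w] at hg'
    have h3 := congrArg (polar Q v') hg'
    simp only [oexp, (mem_hypW.1 (k.1 w').2).2, (mem_hypW.1 w'.2).2, polar_comm Q v' v, h.lr,
      CharTwo.sub_eq_add, zero_add, mul_one] at h3
    rw [h3, vsub (F := F), add_left_inj] at hg'
    refine ⟨x, ?_, (1, k), ⟨rfl, mem_Lin_bot.2 (Subtype.ext hg')⟩, rfl⟩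
    rwa [hM, quad_polar_restrict, ← hg', h3]
  · rintro ⟨x, hx, ⟨a, k⟩, ⟨ha, hk⟩, rfl⟩
    obtain rfl : a = 1 := ha
    refine ⟨by simp [h.levi_v, eich_app_self], _, hx, ?_⟩
    rw [OG.mul_app, show w = w' from rfl, h.levi_w, h.eich_w, mem_Lin_bot.1 hk, vsub (F := F)]
    rfl
  · let E' : AddSubgroup F :=
      { carrier := {b | ∀ e ∈ E, ψ (b * e) = 1}
        zero_mem' := fun e _ => by rw [zero_mul, psi_zero hψ]
        add_mem' := fun {a b} ha hb e he => by rw [add_mul, hψ, ha e he, hb e he, mul_one]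
        neg_mem' := fun {a} ha e he => by rw [CharTwo.neg_eq, ha e he] }
    let π := (MonoidHom.snd _ _).comp ((⊥ : Subgroup Fˣ).prod
      (Lin (Q.restrict (hypW Q v v')) ⊥ w')).subtype
    refine ⟨(Cos _ w' y E').comap π, ?_, fun l => ?_⟩
    · refine NoQ.of_inj (π.comp (Subgroup.subtype _))
        ((injective_iff_map_eq_one _).2 fun l hl => ?_) (ih y E') (fun l => l.2) fun s hs => ?_
      · exact Subtype.ext (Subtype.ext (Prod.ext l.1.2.1 hl))
      · exact ⟨⟨⟨(1, s), rfl, mem_Lin_bot.2 hs.1⟩, hs⟩, rfl⟩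
    · obtain ⟨⟨a, k⟩, ha, hk⟩ := l
      obtain rfl : a = 1 := ha
      change k ∈ Cos _ w' y E' ↔ _
      rw [← Subgroup.inv_mem_iff, mem_Cos]
      have hk' := mem_Lin_bot.1 (Subgroup.inv_mem _ hk)
      simp only [Units.val_one, one_smul]
      generalize k⁻¹ = k at hk'
      constructor
      · rintro ⟨-, b, hb, e⟩ x hx
        rw [e, polar_add_right, hψ, o_polar_smul_right, polar_comm _ x w', hb _ ((hM x).1 hx),
          mul_one]
      · intro h3
        have h4 : ∀ x ∈ M, ψ (polar (Q.restrict _) x (k.1 y - y)) = 1 := fun x hx => by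
          have := hψ (polar (Q.restrict _) x (k.1 y - y)) (polar (Q.restrict _) x y)
          rw [← polar_add_right, sub_add_cancel, h3 x hx] at this
          simpa using this
        have h5 : k.1 y - y ∈ Submodule.span F {w'} := by
          by_contra h5
          obtain ⟨x, hx, hx'⟩ := o_exists_dual h.ndW.nondeg h5 1
          have h6 := hx' w' (Submodule.mem_span_singleton_self _)
          refine one_ne_zero (psi_scal hψ1 fun a => ?_)
          rw [← h4 (a • x) (by rw [hM, o_polar_smul_right, h6, mul_zero]; exact E.zero_mem),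
            o_polar_smul_left, polar_comm, hx]
        obtain ⟨b, hb⟩ := Submodule.mem_span_singleton.1 h5
        refine ⟨hk', b, fun e he => ?_, by rw [hb]; abel⟩
        obtain ⟨x, hx⟩ := o_exists_polar_eq h.ndW.nondeg (x := w')
          (fun h0 => hw (by rw [show w = w' from rfl, h0]; simp)) e
        rw [← h4 x (by rwa [hM, hx]), ← hb, o_polar_smul_right, polar_comm, hx]

end Hyp

/-- The plane spanned by two vectors. -/
def pl (x y : V) : F × F →ₗ[F] V :=
  (LinearMap.fst F F F).smulRight x + (LinearMap.snd F F F).smulRight y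

@[simp] theorem pl_apply (x y : V) (a : F × F) : pl x y a = a.1 • x + a.2 • y := rfl

theorem pl_nondeg [CharP F 2] {x y : V} (h : polar Q x y ≠ 0) :
    (polarBilin (Q.comp (pl x y))).Nondegenerate := by
  refine o_nondeg_of fun a ha => ?_
  have h1 := ha (1, 0)
  have h2 := ha (0, 1)
  rw [← o_polar_congr (Q' := Q) (pl x y) fun _ => rfl] at h1 h2
  simp only [pl_apply, oexp, two0, polar_comm Q y x] at h1 h2
  exact Prod.ext (by simpa [h] using h2) (by simpa [h] using h1)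

theorem noQ_cos_ns [Finite F] [Finite V] [CharP F 2] (hQ : (polarBilin Q).Nondegenerate)
    (hA : ∀ W : Submodule F V, finrank F W < finrank F V →
      (polarBilin (Q.restrict W)).Nondegenerate → NoQ (OG (Q.restrict W)))
    {w : V} (hw : Q w ≠ 0) (hB : NoQ (Lin Q ⊥ w))
    (hC : ∀ v, v ≠ 0 → Q v = 0 → polar Q v w = 0 → NoQ (Cos Q v w ⊥)) (y : V)
    (E : AddSubgroup F) : NoQ (Cos Q w y E) := by
  by_cases h1 : polar Q w y = 0
  · obtain ⟨c, hc⟩ := exists_sq (Q y / Q w)
    have h2 : Q (y + c • w) = 0 := by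
      simp only [oexp, hc, polar_comm Q y w, h1]
      field_simp
      linear_combination Q y * two0 (F := F)
    have h3 : ∀ g, g ∈ Cos Q w y E ↔ g.1 w = w ∧ g.1 (y + c • w) = y + c • w := fun g => by
      rw [mem_Cos, map_add, map_smul]
      refine and_congr_right fun hg => ⟨?_, fun h4 => ⟨0, E.zero_mem, by simpa [hg] using h4⟩⟩
      rintro ⟨e, -, he⟩
      have h4 := OG.map_app g y
      simp only [he, oexp, polar_comm Q y w, h1] at h4
      have : e = 0 := by simpa [hw] using h4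
      simp [he, this, hg]
    by_cases h0 : y + c • w = 0
    · exact hB.of_eq fun g => by simp [h3, h0, mem_Lin_bot]
    · refine (hC _ h0 h2 (by simp [oexp, two0, polar_comm Q y w, h1])).of_eq fun g => ?_
      simp [h3, mem_Cos, and_comm]
  · refine NoQ.of_emb hQ (pl w y) (fun _ => rfl) (pl_nondeg h1)
      (fun W h2 => hA W (by simp at h2; omega)) (S := Cos _ (1, 0) (0, 1) E)
      (NoQ.of_comm ?_) fun g => ⟨?_, ?_⟩
    · rintro ⟨a, ha, s, -, hs⟩ ⟨b, hb, t, -, ht⟩
      refine Subtype.ext (OG.ext fun u => ?_)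
      have : u = u.1 • ((1 : F), (0 : F)) + u.2 • ((0 : F), (1 : F)) := by simp
      rw [this]
      change a.1 (b.1 _) = b.1 (a.1 _)
      simp only [map_add, map_smul, ha, hb, hs, ht]
      module
    · rintro ⟨hg, e, he, hg'⟩
      let s : F × F →ₗ[F] F × F := pl (1, 0) (e, 1)
      have hs : ∀ u, g.1 (pl w y u) = pl w y (s u) := fun u => by
        simp [s, hg, hg']
        module
      have hss : ∀ u, s (s u) = u := fun u => by
        ext <;> simp [s]
        linear_combination u.2 * e * two0 (F := F)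
      exact ⟨OG.ofLinear s s hss hss fun u => by simp only [comp_apply, ← hs, OG.map_app],
        ⟨show s _ = _ by simp [s], e, he, show s _ = _ by simp [s]⟩, hs⟩
    · rintro ⟨s, ⟨h2, e, he, h3⟩, hs⟩
      exact ⟨by simpa [h2] using hs (1, 0), e, he, by simpa [h3, add_comm] using hs (0, 1)⟩

end Cfsg.Agent.Fs
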