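import Mathlib
import Cfsg.Agent.Fs.GeoB

/-!
# Stabilisers of totally singular planes
-/

set_option autoImplicit false
open Cfsg QuadraticMap Module

namespace Cfsg.Agent.Fs
open Cfsg.Agent.Ch Cfsg.Agent.Cl Cfsg.Agent.Cl.MaxO

variable {F W : Type*} [Field F] [AddCommGroup W] [Module F W] {Q : QuadraticForm F W}

variable (F) in
/-- The split form in dimension four. -/
def H4 : QuadraticForm F ((F × F) × (F × F)) :=
  linMulLin ((LinearMap.fst F F F).comp (LinearMap.fst F _ _))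
      ((LinearMap.snd F F F).comp (LinearMap.snd F _ _)) +
    linMulLin ((LinearMap.snd F F F).comp (LinearMap.fst F _ _))
      ((LinearMap.fst F F F).comp (LinearMap.snd F _ _))

theorem H4_apply (p : (F × F) × (F × F)) : H4 F p = p.1.1 * p.2.2 + p.1.2 * p.2.1 := rfl

theorem polar_H4 (p q : (F × F) × (F × F)) : polar (H4 F) p q =
    p.1.1 * q.2.2 + p.1.2 * q.2.1 + (q.1.1 * p.2.2 + q.1.2 * p.2.1) := by
  simp only [polar, H4_apply, Prod.fst_add, Prod.snd_add]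
  ring

theorem H4_nondeg : (polarBilin (H4 F)).Nondegenerate := o_nondeg_of fun p h => by
  have h1 := h ((1, 0), 0)
  have h2 := h ((0, 1), 0)
  have h3 := h (0, (1, 0))
  have h4 := h (0, (0, 1))
  simp [polar_H4] at h1 h2 h3 h4
  ext <;> simp [*]

theorem Q0_apply (p : ((F × F) × (F × F)) × W) :
    ((H4 F).prod Q) p = p.1.1.1 * p.1.2.2 + p.1.1.2 * p.1.2.1 + Q p.2 := rfl

theorem polar_Q0 (p q : ((F × F) × (F × F)) × W) : polar ((H4 F).prod Q) p q =
    p.1.1.1 * q.1.2.2 + p.1.1.2 * q.1.2.1 + (q.1.1.1 * p.1.2.2 + q.1.1.2 * p.1.2.1) +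
      polar Q p.2 q.2 := by
  rw [polar_prod, polar_H4]

variable (Q) in
/-- The elements of the unipotent radical. -/
def EL (x : W × W) (z : F) : (((F × F) × (F × F)) × W) →ₗ[F] (((F × F) × (F × F)) × W) where
  toFun p := (((p.1.1.1 + polar Q p.2 x.2 + p.1.2.2 * Q x.2 + z * p.1.2.1 +
      p.1.2.1 * polar Q x.1 x.2, p.1.1.2 + polar Q p.2 x.1 + p.1.2.1 * Q x.1 + z * p.1.2.2), p.1.2),
    p.2 + p.1.2.1 • x.1 + p.1.2.2 • x.2)
  map_add' p q := by
    ext <;> simp [oexp]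
    · ring
    · ring
    · module
  map_smul' a p := by
    ext <;> simp [oexp]
    · ring
    · ring
    · module

theorem EL_apply (x : W × W) (z : F) (p : ((F × F) × (F × F)) × W) : EL Q x z p =
    (((p.1.1.1 + polar Q p.2 x.2 + p.1.2.2 * Q x.2 + z * p.1.2.1 +
      p.1.2.1 * polar Q x.1 x.2, p.1.1.2 + polar Q p.2 x.1 + p.1.2.1 * Q x.1 + z * p.1.2.2), p.1.2),
    p.2 + p.1.2.1 • x.1 + p.1.2.2 • x.2) := rfl

variable [CharP F 2]

theorem EL_EL (x y : W × W) (z z' : F) (p : ((F × F) × (F × F)) × W) :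
    EL Q x z (EL Q y z' p) = EL Q (x + y) (z + z' + polar Q x.1 y.2) p := by
  ext <;> simp only [EL_apply, oexp, Prod.fst_add, Prod.snd_add, polar_comm Q y.2 x.1,
    polar_comm Q y.2 x.2, polar_comm Q y.1 x.1]
  · linear_combination (-p.1.2.1 * polar Q x.1 y.2) * two0 (F := F)
  · ring
  · module

theorem EL_zero (p : ((F × F) × (F × F)) × W) : EL Q 0 0 p = p := by
  ext <;> simp [EL_apply]

theorem EL_inv (x : W × W) (z : F) (p : ((F × F) × (F × F)) × W) :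
    EL Q x z (EL Q x (z + polar Q x.1 x.2) p) = p ∧ EL Q x (z + polar Q x.1 x.2) (EL Q x z p) = p := by
  rw [EL_EL, EL_EL, vadd_self (F := F)]
  constructor
  · convert EL_zero p
    linear_combination (z + polar Q x.1 x.2) * two0 (F := F)
  · convert EL_zero p
    linear_combination (z + polar Q x.1 x.2) * two0 (F := F)

variable (Q) in
/-- The elements of the unipotent radical, as isometries. -/
def EO4 (x : W × W) (z : F) : OG ((H4 F).prod Q) :=
  OG.ofLinear (EL Q x z) (EL Q x (z + polar Q x.1 x.2)) (fun p => (EL_inv x z p).1)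
    (fun p => (EL_inv x z p).2) fun p => by
      simp only [Q0_apply, EL_apply, oexp]
      linear_combination (polar Q p.2 x.2 * p.1.2.2 + p.1.2.2 ^ 2 * Q x.2 + z * p.1.2.1 * p.1.2.2 +
        p.1.2.1 * p.1.2.2 * polar Q x.1 x.2 + polar Q p.2 x.1 * p.1.2.1 + p.1.2.1 ^ 2 * Q x.1) *
        two0 (F := F)

theorem EO4_app (x : W × W) (z : F) (p : ((F × F) × (F × F)) × W) :
    (EO4 Q x z).1 p = EL Q x z p := rfl

theorem rad_b (k : OG ((H4 F).prod Q)) (h1 : ∀ a, k.1 ((a, 0), 0) = ((a, 0), 0))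
    (p : ((F × F) × (F × F)) × W) : (k.1 p).1.2 = p.1.2 := by
  have h2 := OG.polar_app k (((1, 0), 0), 0) p
  have h3 := OG.polar_app k (((0, 1), 0), 0) p
  rw [h1] at h2 h3
  ext
  · simpa [polar_H4] using h3
  · simpa [polar_H4] using h2

theorem rad_eq (k : OG ((H4 F).prod Q)) (h1 : ∀ a, k.1 ((a, 0), 0) = ((a, 0), 0))
    (h2 : ∀ w, (k.1 (0, w)).2 = w) :
    k = EO4 Q ((k.1 ((0, (1, 0)), 0)).2, (k.1 ((0, (0, 1)), 0)).2) (k.1 ((0, (0, 1)), 0)).1.1.2 := by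
  have hb := rad_b k h1
  have a1 := OG.map_app k ((0, (1, 0)), 0)
  have a2 := OG.map_app k ((0, (0, 1)), 0)
  have a3 := OG.polar_app k ((0, (1, 0)), 0) ((0, (0, 1)), 0)
  have a4 := fun w => OG.polar_app k ((0, (1, 0)), 0) (0, w)
  have a5 := fun w => OG.polar_app k ((0, (0, 1)), 0) (0, w)
  simp only [Q0_apply, polar_Q0, hb, h2] at a1 a2 a3 a4 a5
  simp at a1 a2 a3 a4 a5
  have b1 := hb ((0, (1, 0)), 0)
  have b2 := hb ((0, (0, 1)), 0)
  refine OG.ext fun p => ?_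
  have e : p = ((p.1.1, 0), 0) + p.1.2.1 • ((0, (1, 0)), 0) + p.1.2.2 • ((0, (0, 1)), 0) +
      (0, p.2) := by ext <;> simp
  rw [EO4_app, EL_apply]
  conv_lhs => rw [e, map_add, map_add, map_add, map_smul, map_smul, h1]
  generalize k.1 ((0, (1, 0)), 0) = s at *
  generalize k.1 ((0, (0, 1)), 0) = t at *
  have a6 := a4 p.2
  have a7 := a5 p.2
  ext <;> simp [hb, h2, b1, b2, polar_comm Q p.2]
  · linear_combination p.1.2.1 * a3 + p.1.2.2 * a2 + a7 - (p.1.2.1 * t.1.1.2 +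
      p.1.2.1 * polar Q s.2 t.2 + p.1.2.2 * Q t.2 + polar Q t.2 p.2) * two0 (F := F)
  · linear_combination p.1.2.1 * a1 + a6 - (p.1.2.1 * Q s.2 + polar Q s.2 p.2) * two0 (F := F)
  · module

variable {N : QuadraticForm F (F × F)}

/-- The diagonal action on the split four-dimensional space. -/
def dd (hN : ∀ a b, polar N a b = a.1 * b.2 + a.2 * b.1) : OG N →* OG (H4 F) where
  toFun d := ⟨d.1.prodCongr d.1, fun p => by
    rw [H4_apply, H4_apply, ← hN, ← hN]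
    exact OG.polar_app d _ _⟩
  map_one' := rfl
  map_mul' _ _ := rfl

variable (Q) in
/-- The Levi complement. -/
def lev4 (hN : ∀ a b, polar N a b = a.1 * b.2 + a.2 * b.1) : OG N × OG Q →* OG ((H4 F).prod Q) :=
  (OG.prodHom _ _).comp ((dd hN).prodMap (MonoidHom.id _))

omit [CharP F 2] in
theorem lev4_app (hN : ∀ a b, polar N a b = a.1 * b.2 + a.2 * b.1) (l : OG N × OG Q)
    (p : ((F × F) × (F × F)) × W) :
    (lev4 Q hN l).1 p = ((l.1.1 p.1.1, l.1.1 p.1.2), l.2.1 p.2) := rfl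

variable (F W) in
/-- The standard totally singular plane. -/
def Y4 : F × F →ₗ[F] ((F × F) × (F × F)) × W := (LinearMap.inl F _ _).comp (LinearMap.inl F _ _)

theorem EO4_inj {x y : W × W} {z z' : F} (h1 : EO4 Q x z = EO4 Q y z') : x = y ∧ z = z' := by
  have h2 := congrArg (fun g => g.1 ((0, (1, 0)), 0)) h1
  have h3 := congrArg (fun g => g.1 ((0, (0, 1)), 0)) h1
  simp [EO4_app, EL_apply] at h2 h3
  exact ⟨Prod.ext h2.2 h3.2, h3.1.2⟩

variable (hN : ∀ a b, polar N a b = a.1 * b.2 + a.2 * b.1)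

theorem conj_EO4 (l : OG N × OG Q) (x : W × W) (z : F) :
    lev4 Q hN l * EO4 Q x z * (lev4 Q hN l)⁻¹ =
      EO4 Q (l.2.1 (pl x.1 x.2 ((l.1⁻¹).1 (1, 0))), l.2.1 (pl x.1 x.2 ((l.1⁻¹).1 (0, 1))))
        (z + (l.1.1 (EL Q x 0 ((0, (l.1⁻¹).1 (0, 1)), 0)).1.1).2) := by
  rw [← map_inv, rad_eq (lev4 Q hN l * EO4 Q x z * lev4 Q hN l⁻¹)
    (fun a => by simp only [OG.mul_app, lev4_app, EO4_app, EL_apply]; simp)
    (fun w => by simp only [OG.mul_app, lev4_app, EO4_app, EL_apply]; simp)]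
  congr 1
  · simp only [OG.mul_app, lev4_app, EO4_app, EL_apply]
    simp
  · have h1 : (EL Q x z ((0, (l.1⁻¹).1 (0, 1)), 0)).1.1 =
        z • (l.1⁻¹).1 (0, 1) + (EL Q x 0 ((0, (l.1⁻¹).1 (0, 1)), 0)).1.1 := by
      ext <;> simp [EL_apply] <;> ring
    simp only [OG.mul_app, lev4_app, EO4_app, map_zero, Prod.fst_inv]
    rw [h1, map_add, map_smul, OG.app_inv_app]
    simp

theorem exists_restr (k₁ : OG ((H4 F).prod Q)) (h1 : ∀ a, k₁.1 ((a, 0), 0) = ((a, 0), 0)) :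
    ∃ g : OG Q, ∀ w, g.1 w = (k₁.1 (0, w)).2 := by
  have h1' : ∀ a, (k₁⁻¹).1 ((a, 0), 0) = ((a, 0), 0) := fun a => by rw [OG.inv_app_eq_iff, h1]
  let r : OG ((H4 F).prod Q) → W →ₗ[F] W := fun k =>
    (LinearMap.snd F _ _).comp (k.1.toLinearMap.comp (LinearMap.inr F _ _))
  have hr : ∀ k w, r k w = (k.1 (0, w)).2 := fun _ _ => rfl
  have h2 : ∀ k k' : OG ((H4 F).prod Q), (∀ a, k.1 ((a, 0), 0) = ((a, 0), 0)) →
      (∀ a, k'.1 ((a, 0), 0) = ((a, 0), 0)) → ∀ w, r k (r k' w) = r (k * k') w := by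
    intro k k' a1 a2 w
    have e : k'.1 (0, w) = (((k'.1 (0, w)).1.1, 0), 0) + (0, r k' w) := by
      ext <;> simp [hr, rad_b k' a2]
    rw [hr (k * k'), OG.mul_app, e, map_add, a1]
    simp [hr]
  exact ⟨OG.ofLinear (r k₁) (r k₁⁻¹) (fun w => by rw [h2 _ _ h1 h1', mul_inv_cancel]; rfl)
    (fun w => by rw [h2 _ _ h1' h1, inv_mul_cancel]; rfl) fun w => by
      have := OG.map_app k₁ (0, w)
      simp only [Q0_apply, rad_b k₁ h1] at this
      simpa [hr] using this, fun _ => rfl⟩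

theorem decomp4 {d : OG N} {k : OG ((H4 F).prod Q)}
    (hk : ∀ u, k.1 ((u, 0), 0) = ((d.1 u, 0), 0)) :
    ∃ x z g, k = EO4 Q x z * lev4 Q hN (d, g) := by
  have h1 : ∀ a, (k * lev4 Q hN (d, 1)⁻¹).1 ((a, 0), 0) = ((a, 0), 0) := fun a => by
    simp only [OG.mul_app, lev4_app, map_zero, hk, Prod.fst_inv, OG.app_inv_app]
  obtain ⟨g, hg⟩ := exists_restr _ h1
  have h3 := rad_eq (k * lev4 Q hN (d, 1)⁻¹ * lev4 Q hN (1, g)⁻¹)
    (fun a => by
      rw [OG.mul_app, lev4_app]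
      simp only [map_zero, Prod.fst_inv, inv_one, OG.one_app, h1]) fun w => by
      rw [OG.mul_app, lev4_app]
      simp only [map_zero, Prod.fst_zero, Prod.snd_zero, Prod.mk_zero_zero, Prod.snd_inv, ← hg]
      exact OG.app_inv_app g w
  refine ⟨_, _, g, Eq.trans ?_ (congrArg (· * lev4 Q hN (d, g)) h3)⟩
  rw [mul_assoc, mul_assoc, ← map_mul, ← map_mul]
  simp [Prod.mk_one_one]

omit [CharP F 2] in
theorem pl_std (d : OG N) (a : F × F) : d.1 a = pl (d.1 (1, 0)) (d.1 (0, 1)) a := by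
  rw [pl_apply, ← map_smul, ← map_smul, ← map_add]
  simp

include hN in
omit [CharP F 2] in
theorem stab4 [Finite F] [Finite W] (hQ : (polarBilin Q).Nondegenerate) (φ : W × W → ℂˣ)
    (hφ : ∀ x y, φ (x + y) = φ x * φ y) : ∃ Y, ∀ l : OG N × OG Q, l ∈ St Q N Y ↔
      ∀ x : W × W, φ (l.2.1 (pl x.1 x.2 ((l.1⁻¹).1 (1, 0))),
        l.2.1 (pl x.1 x.2 ((l.1⁻¹).1 (0, 1)))) = φ x := by
  obtain ⟨ψ, hψ, hψ1⟩ := exists_psi F
  obtain ⟨y₂, h2⟩ := exists_dual hQ hψ hψ1 (fun x => φ (x, 0)) fun x y => by simp [← hφ]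
  obtain ⟨y₁, h1⟩ := exists_dual hQ hψ hψ1 (fun x => φ (0, x)) fun x y => by simp [← hφ]
  have h3 : ∀ x, φ x = ψ (polar Q x.1 y₂ + polar Q x.2 y₁) := fun x => by
    rw [hψ, ← h1, ← h2, ← hφ]
    simp
  refine ⟨pl y₁ y₂, fun l => ?_⟩
  rw [mem_St]
  have h4 : ∀ x : W × W, φ (l.2.1 (pl x.1 x.2 ((l.1⁻¹).1 (1, 0))),
      l.2.1 (pl x.1 x.2 ((l.1⁻¹).1 (0, 1)))) =
      ψ (polar Q x.1 ((l.2⁻¹).1 (pl y₁ y₂ (l.1.1 (0, 1)))) +
        polar Q x.2 ((l.2⁻¹).1 (pl y₁ y₂ (l.1.1 (1, 0))))) := fun x => by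
    have a1 := OG.polar_inv_left l.1 (1, 0) (1, 0)
    have a2 := OG.polar_inv_left l.1 (1, 0) (0, 1)
    have a3 := OG.polar_inv_left l.1 (0, 1) (1, 0)
    have a4 := OG.polar_inv_left l.1 (0, 1) (0, 1)
    simp only [hN, mul_one, mul_zero, one_mul, zero_mul, add_zero, zero_add] at a1 a2 a3 a4
    rw [h3]
    simp only [OG.polar_inv_right, pl_apply, map_add, map_smul, oexp, a1, a2, a3, a4]
    congr 1
    ring
  constructor
  · intro h5 x
    rw [h4, ← h5, ← h5, OG.inv_app_app, OG.inv_app_app, h3]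
    simp
  · intro h5 u
    simp only [h4] at h5
    simp only [h3] at h5
    have a1 := psi_sep hQ hψ hψ1 fun x => by simpa only [polar_zero_left, add_zero] using h5 (x, 0)
    have a2 := psi_sep hQ hψ hψ1 fun x => by simpa only [polar_zero_left, zero_add] using h5 (0, x)
    rw [OG.inv_app_eq_iff] at a1 a2
    rw [pl_std l.1 u, pl_apply _ _ u, pl_apply _ _ u, map_add, map_add, map_smul, map_smul,
      map_smul, map_smul, a1, a2]

include hN in
theorem noQ_model [Finite F] [Finite W] (hQ : (polarBilin Q).Nondegenerate)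
    (hodd : Odd (Lin N ⊥ (1, 0)).index)
    (ih : ∀ Y : F × F →ₗ[F] W, NoQ (St Q N Y)) : NoQ (St ((H4 F).prod Q) N (Y4 F W)) := by
  have hE : ∀ x z, ((1 : OG N), EO4 Q x z) ∈ St ((H4 F).prod Q) N (Y4 F W) := fun x z u => by
    ext <;> simp [Y4, EO4_app, EL_apply]
  have hH : Heis (fun x z => (⟨_, hE x z⟩ : St ((H4 F).prod Q) N (Y4 F W)))
      fun x y => polar Q x.1 y.2 :=
    ⟨fun x z y z' => Subtype.ext (Prod.ext (mul_one _) (OG.ext (EL_EL x y z z'))),
      fun x z y z' h => EO4_inj (congrArg (fun g => g.1.2) h),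
      vadd_self (F := F), vadd_self (F := F), by simp, by simp⟩
  let j : OG N × OG Q →* St ((H4 F).prod Q) N (Y4 F W) :=
    ((MonoidHom.fst _ _).prod (lev4 Q hN)).codRestrict _ fun l u => by
      simp [Y4, lev4_app]
  refine NoQ.of_heis hH j
    (fun l x => (l.2.1 (pl x.1 x.2 ((l.1⁻¹).1 (1, 0))), l.2.1 (pl x.1 x.2 ((l.1⁻¹).1 (0, 1)))))
    (fun l x => (l.1.1 (EL Q x 0 ((0, (l.1⁻¹).1 (0, 1)), 0)).1.1).2)
    (fun l x z => Subtype.ext (Prod.ext (mul_inv_eq_one.2 (mul_one l.1)) (conj_EO4 hN l x z)))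
    (fun l => by simp [EL_zero, Prod.ext_iff]) ?_ ?_ ?_ ((Lin N ⊥ (1, 0)).prod ⊤)
    (by rwa [Subgroup.index_prod, Subgroup.index_top, mul_one]) (AddSubgroup.prod ⊥ ⊤) ?_ ?_ ?_
  · rintro ⟨⟨d, k⟩, hk⟩
    obtain ⟨x, z, g, h⟩ := decomp4 hN hk
    exact ⟨x, z, (d, g), Subtype.ext (Prod.ext (one_mul d).symm h)⟩
  · intro l x z h
    have h1 : l.1 = 1 := congrArg (fun g => g.1.1) h
    have h2 : lev4 Q hN l = EO4 Q x z := congrArg (fun g => g.1.2) h
    have h3 : l.2 = 1 := OG.ext fun w => by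
      simpa [lev4_app, EO4_app, EL_apply] using congrArg (fun g => (g.1 (0, w)).2) h2
    rw [show l = 1 from Prod.ext h1 h3, map_one]
  · intro φ hφ
    obtain ⟨Y, hY⟩ := stab4 hN hQ φ hφ
    exact ⟨_, ih Y, hY⟩
  · rintro ⟨x₁, x₂⟩ ⟨hx, -⟩ y -
    obtain rfl : x₁ = 0 := hx
    simp
  · rintro ⟨d, g⟩ ⟨hd, -⟩ ⟨x₁, x₂⟩ ⟨hx, -⟩
    obtain rfl : x₁ = 0 := hx
    have h1 := mem_Lin_bot.1 hd
    have h2 := mem_Lin_bot.1 (Subgroup.inv_mem _ hd)
    refine ⟨⟨?_, trivial⟩, ?_⟩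
    · change g.1 (pl 0 x₂ ((d⁻¹).1 (1, 0))) = 0
      rw [h2]
      simp
    have h3 : (EL Q (0, x₂) 0 ((0, (d⁻¹).1 (0, 1)), 0)).1.1 =
        (((d⁻¹).1 (0, 1)).2 * Q x₂) • ((1 : F), (0 : F)) := by ext <;> simp [EL_apply]
    simp only [h3, map_smul, h1]
    simp
  · rintro lam - ⟨z, hz⟩
    have h1 : ∀ x : W × W, x.1 ≠ 0 → ∃ y ∈ AddSubgroup.prod (⊥ : AddSubgroup W) ⊤,
        lam (polar Q x.1 y.2 + polar Q y.1 x.2) ≠ 1 := fun x hx => by
      obtain ⟨y, hy⟩ := o_exists_polar_eq hQ hx z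
      exact ⟨(0, y), ⟨rfl, trivial⟩, by simpa [hy] using hz⟩
    refine ⟨fun x hx => ?_, fun x hx => h1 x fun h => hx ⟨h, trivial⟩⟩
    by_cases h2 : x.1 = 0
    · obtain ⟨y, hy⟩ := o_exists_polar_eq hQ (x := x.2) (fun h => hx (Prod.ext h2 h)) z
      exact ⟨(y, 0), by simpa [polar_comm Q y, hy] using hz⟩
    · obtain ⟨y, -, hy⟩ := h1 x h2
      exact ⟨y, hy⟩

section Transport
variable {V U U' : Type*} [AddCommGroup V] [Module F V] [AddCommGroup U] [Module F U]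
  [AddCommGroup U'] [Module F U'] {P : QuadraticForm F V} {N : QuadraticForm F U}

omit [CharP F 2] in
theorem NoQ.st_congr [Finite U'] [Finite W] {N' : QuadraticForm F U'} (T : U' ≃ₗ[F] U)
    (hT : ∀ u, N (T u) = N' u) (e : W ≃ₗ[F] V) (he : ∀ x, P (e x) = Q x) {Y : U →ₗ[F] V}
    {Y' : U' →ₗ[F] W} (hY : ∀ u, e (Y' u) = Y (T u)) (h : NoQ (St Q N' Y')) : NoQ (St P N Y) := by
  refine h.of_range_sub ((OG.congr T hT).toMonoidHom.prodMap (OG.congr e he).toMonoidHom)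
    (fun g hg u => ?_) fun k hk => ⟨((OG.congr T hT).symm k.1, (OG.congr e he).symm k.2),
      fun u => ?_, by simp⟩
  · obtain ⟨u, rfl⟩ := T.surjective u
    change e (g.2.1 (e.symm _)) = Y (T (g.1.1 (T.symm _)))
    rw [← hY, ← hY, e.symm_apply_apply, T.symm_apply_apply, hg]
  · change e.symm (k.2.1 (e _)) = Y' (T.symm (k.1.1 (T u)))
    rw [e.symm_apply_eq, hY, hY, hk, T.apply_symm_apply]

theorem exists_odd_index [Finite U] (hN : (polarBilin N).Nondegenerate) (h2 : finrank F U = 2) :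
    ∃ u, u ≠ 0 ∧ Odd (Lin N ⊥ u).index := by
  let S : Sylow 2 (OG N) := default
  have : Nontrivial U := finrank_pos_iff.1 (by rw [h2]; norm_num : 0 < finrank F U)
  obtain ⟨s, hs⟩ := exists_ne (0 : U)
  obtain ⟨u, -, hu, h⟩ := exists_fixed_sub S.isPGroup' ⊤ (fun _ _ _ _ => trivial) trivial hs
  refine ⟨u, hu, Nat.odd_iff.2 (Nat.two_dvd_ne_zero.1 fun h3 => S.not_dvd_index (h3.trans ?_))⟩
  exact Subgroup.index_dvd_of_le fun p hp => mem_Lin_bot.2 (h p hp)

/-- Coordinates on a plane. -/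
noncomputable def plE (h2 : finrank F U = 2) {f f' : U} (hf : polar N f f' = 1) :
    (F × F) ≃ₗ[F] U :=
  LinearEquiv.ofLinear (pl f f') ((polarBilin N f').prod (polarBilin N f))
    (LinearMap.ext fun x => by simpa [polar_comm N x] using (plane_exp h2 hf x).symm)
    (LinearMap.ext fun x => by ext <;> simp [oexp, hf, polar_comm N f' f, two0])

theorem plE_apply (h2 : finrank F U = 2) {f f' : U} (hf : polar N f f' = 1) (a : F × F) :
    plE h2 hf a = a.1 • f + a.2 • f' := rfl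

theorem noQ_st_sing [Finite F] [Finite V] [Finite U] (hP : (polarBilin P).Nondegenerate)
    (hN : (polarBilin N).Nondegenerate) (h2 : finrank F U = 2) {Y : U →ₗ[F] V}
    (hY : Function.Injective Y) (hY0 : ∀ u, P (Y u) = 0)
    (ih : ∀ W : Submodule F V, finrank F W + 4 = finrank F V →
      (polarBilin (P.restrict W)).Nondegenerate → ∀ N' : QuadraticForm F (F × F),
      (polarBilin N').Nondegenerate → ∀ Y', NoQ (St (P.restrict W) N' Y')) : NoQ (St P N Y) := by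
  obtain ⟨f, hf0, hodd⟩ := exists_odd_index hN h2
  obtain ⟨f', hf⟩ := o_exists_polar_eq hN hf0 1
  have hli : ∀ a b : F, a • Y f + b • Y f' = 0 → a = 0 ∧ b = 0 := fun a b h => by
    rw [← map_smul, ← map_smul, ← map_add, map_eq_zero_iff _ hY] at h
    simpa [Prod.ext_iff] using (plE h2 hf).map_eq_zero_iff.1 (show plE h2 hf (a, b) = 0 from h)
  have h12 : polar P (Y f) (Y f') = 0 := by simp [polar, ← map_add, hY0]
  obtain ⟨y₂, a1, a2, a3⟩ := o_exists_partner_perp_one hP (u := Y f) (v := Y f') (hY0 f) (by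
    rw [Submodule.mem_span_singleton]
    rintro ⟨c, hc⟩
    exact one_ne_zero (hli 1 (-c) (by rw [← hc]; module)).1) (by rw [polar_comm, h12])
  obtain ⟨y₁, b1, b2, b3⟩ := o_exists_partner_perp hP (W := Submodule.span F {Y f, y₂}) (u := Y f')
    (hY0 f') (by
      rw [Submodule.mem_span_pair]
      rintro ⟨c, d, hc⟩
      have h3 := congrArg (polar P (Y f)) hc
      simp only [oexp, two0, a2, h12] at h3
      have h4 : d = 0 := by simpa using h3
      exact one_ne_zero (hli (-c) 1 (by rw [← hc, h4]; module)).2) (by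
      rw [← mem_operp, mem_operp_span]
      simp [h12, polar_comm P y₂, a3])
  have b4 := b3 (Y f) (Submodule.subset_span (by simp))
  have b5 := b3 y₂ (Submodule.subset_span (by simp))
  obtain ⟨W, e, c1, c2, c3, c4⟩ := exists_orth hP ((pl (Y f) (Y f')).coprod (pl y₁ y₂))
    (Q₁ := H4 F) (fun u => by
      simp only [LinearMap.coprod_apply, pl_apply, oexp, H4_apply, hY0, a1, a2, a3, b1, b2, b4, b5,
        h12, polar_comm P y₁ y₂]
      ring) H4_nondeg
  have hN' : ∀ a b, polar (N.comp (plE h2 hf).toLinearMap) a b = a.1 * b.2 + a.2 * b.1 :=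
    fun a b => by
      rw [← o_polar_congr (Q' := N) (plE h2 hf).toLinearMap fun _ => rfl]
      simp only [LinearEquiv.coe_coe, plE_apply, oexp, hf, polar_comm N f' f, two0]
      ring
  refine NoQ.st_congr (N' := N.comp (plE h2 hf).toLinearMap) (plE h2 hf) (fun _ => rfl) e c2
    (Y' := Y4 F W) (fun u => by simp [Y4, c1, plE_apply]) (noQ_model hN' c3 ?_
      (ih W (by simpa using c4) c3 _ (o_nondeg_of fun a ha => ?_)))
  · rw [← Subgroup.index_comap_of_surjective _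
      (f := (OG.congr (Q := N.comp (plE h2 hf).toLinearMap) (plE h2 hf) fun _ => rfl).toMonoidHom)
      (MulEquiv.surjective _)] at hodd
    convert hodd
    ext g
    have h3 : plE h2 hf (1, 0) = f := by simp [plE_apply]
    have h4 : (plE h2 hf).symm f = (1, 0) := by rw [LinearEquiv.symm_apply_eq, h3]
    rw [Subgroup.mem_comap, mem_Lin_bot, mem_Lin_bot]
    change _ ↔ plE h2 hf (g.1 ((plE h2 hf).symm f)) = f
    rw [h4, ← (plE h2 hf).eq_symm_apply, h4]
  · have h3 := ha (1, 0)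
    have h4 := ha (0, 1)
    rw [hN'] at h3 h4
    exact Prod.ext (by simpa using h4) (by simpa using h3)

end Transport

end Cfsg.Agent.Fs
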