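import Mathlib
import Cfsg.Agent.Fs.GeoC

/-!
# General intertwining stabilisers, orthogonal splittings and field extensions
-/

set_option autoImplicit false
open Cfsg QuadraticMap Module

namespace Cfsg.Agent.Fs
open Cfsg.Agent.Ch Cfsg.Agent.Cl Cfsg.Agent.Cl.MaxO

variable {F V : Type*} [Field F] [AddCommGroup V] [Module F V] {Q : QuadraticForm F V}

section St
variable [Finite F] [Finite V] [CharP F 2] {U : Type*} [AddCommGroup U] [Module F U] [Finite U]
  {N : QuadraticForm F U}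

theorem noQ_st_ker (hN : (polarBilin N).Nondegenerate) (h2 : finrank F U = 2)
    (hB : ∀ D v, NoQ (Lin Q D v)) (hB' : ∀ v, NoQ (Lin N ⊥ v)) {Y : U →ₗ[F] V} {f : U} (hf0 : f ≠ 0)
    (hf : Y f = 0) : NoQ (St Q N Y) := by
  obtain ⟨f', h1, h1'⟩ : ∃ f', polar N f f' = 1 ∧ (N f = 0 → N f' = 0) := by
    by_cases h : N f = 0
    · obtain ⟨y, a, b⟩ := o_exists_partner hN h hf0
      exact ⟨y, b, fun _ => a⟩
    · obtain ⟨y, b⟩ := o_exists_polar_eq hN hf0 1
      exact ⟨y, b, fun a => (h a).elim⟩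
  have hY : ∀ x, Y x = polar N x f • Y f' := fun x => by
    conv_lhs => rw [plane_exp h2 h1 x, map_add, map_smul, map_smul, hf, smul_zero, zero_add]
  by_cases hw : Y f' = 0
  · refine ((hB' 0).prod_sub (hB ⊥ 0)).of_eq fun g => ?_
    have h0 : ∀ x, Y x = 0 := fun x => by rw [hY, hw, smul_zero]
    simp [Subgroup.mem_prod, mem_Lin_bot, mem_St, h0]
  have key : ∀ p ∈ St Q N Y, ∃ a : Fˣ, p.1.1 f = ((a⁻¹ : Fˣ) : F) • f ∧ polar N (p.1.1 f') f = a ∧
      p.2.1 (Y f') = (a : F) • Y f' := fun p hp => by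
    have a1 := hp f
    rw [hf, map_zero, hY] at a1
    have a2 := plane_exp h2 h1 (p.1.1 f)
    rw [(smul_eq_zero_iff_left hw).1 a1.symm, zero_smul, add_zero] at a2
    have a3 := OG.polar_app p.1 f f'
    rw [a2, h1, o_polar_smul_left, polar_comm N f] at a3
    exact ⟨(Units.mkOfMulEqOne _ _ a3)⁻¹, a2, rfl, by rw [hp, hY]; rfl⟩
  by_cases h : N f = 0
  · refine NoQ.of_inj ((MonoidHom.snd _ _).comp (St Q N Y).subtype)
      ((injective_iff_map_eq_one _).2 fun p hp => ?_) (hB ⊤ (Y f')) (fun p => ?_) ?_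
    · have hp : p.1.2 = 1 := hp
      obtain ⟨a, a1, a2, a3⟩ := key p p.2
      rw [hp, OG.one_app] at a3
      obtain rfl : a = 1 := Units.ext (smul_left_injective F hw (by simpa using a3.symm))
      have a4 := plane_exp h2 h1 (p.1.1.1 f')
      have a5 := OG.map_app p.1.1 f'
      rw [a4, a2] at a5
      simp only [oexp, h, h1, h1' h] at a5
      have a6 : polar N (p.1.1.1 f') f' = 0 := by simpa using a5
      rw [a6, a2] at a4
      exact Subtype.ext (Prod.ext (OG.ext (plane_ext h2 h1 (A := p.1.1.1.toLinearMap)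
        (B := LinearMap.id) (by simpa using a1) (by simpa using a4))) hp)
    · obtain ⟨a, -, -, a3⟩ := key p p.2
      exact ⟨a, trivial, a3⟩
    · rintro g ⟨a, -, ha⟩
      refine ⟨⟨(otor N f f' (a⁻¹ : Fˣ), g), plane_ext h2 h1 (A := g.1.toLinearMap ∘ₗ Y)
        (B := Y ∘ₗ (otor N f f' (a⁻¹ : Fˣ)).1.toLinearMap) ?_ ?_⟩, rfl⟩
      · simp [otor_left h (h1' h) h1, hf]
      · simp [otor_right h (h1' h) h1, ha]
  · refine ((hB' f).prod_sub (hB ⊥ (Y f'))).of_eq fun p => ⟨fun hp => ?_, fun hp => ?_⟩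
    · have a1 := mem_Lin_bot.1 hp.1
      refine plane_ext h2 h1 (A := p.2.1.toLinearMap ∘ₗ Y) (B := Y ∘ₗ p.1.1.toLinearMap)
        (by simp [a1, hf]) ?_
      have a2 := OG.polar_app p.1 f' f
      rw [a1, polar_comm N f', h1] at a2
      simp [mem_Lin_bot.1 hp.2, hY (p.1.1 f'), a2]
    · obtain ⟨a, a1, a2, a3⟩ := key p hp
      have a4 := (mem_Lin_of_ne (D := ⊤) h).1 ⟨_, trivial, a1⟩
      have a5 := OG.polar_app p.1 f' f
      rw [a4, a2, polar_comm N f', h1] at a5
      exact ⟨mem_Lin_bot.2 a4, mem_Lin_bot.2 (by rw [a3, a5, one_smul])⟩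

theorem exists_diff (hN : (polarBilin N).Nondegenerate) (h2 : finrank F U = 2)
    (P : QuadraticForm F U) : ∃ (κ : F) (y : U), (∀ x, P x = κ * N x + polar N x y ^ 2) ∧
      ∀ x z, polar P x z = κ * polar N x z := by
  have : Nontrivial U := finrank_pos_iff.1 (by rw [h2]; norm_num : 0 < finrank F U)
  obtain ⟨f, hf⟩ := exists_ne (0 : U)
  obtain ⟨f', h1⟩ := o_exists_polar_eq hN hf 1
  obtain ⟨r, hr⟩ := exists_sq (P f + polar P f f' * N f)
  obtain ⟨s, hs⟩ := exists_sq (P f' + polar P f f' * N f')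
  have key : ∀ x, P x = polar P f f' * N x + polar N x (r • f' + s • f) ^ 2 := fun x => by
    have e := plane_exp h2 h1 x
    generalize polar N x f' = a at e
    generalize polar N x f = b at e
    subst e
    simp only [oexp, h1, polar_comm N f' f, two0]
    linear_combination (-a ^ 2) * hr - b ^ 2 * hs - (a ^ 2 * polar P f f' * N f +
      b ^ 2 * polar P f f' * N f' + r * a * s * b) * two0 (F := F)
  refine ⟨_, _, key, fun x z => ?_⟩
  generalize r • f' + s • f = y at key
  rw [polar, key, key, key]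
  simp only [oexp]
  linear_combination (polar N x y * polar N z y) * two0 (F := F)

theorem noQ_st (hQ : (polarBilin Q).Nondegenerate) (hN : (polarBilin N).Nondegenerate)
    (h2 : finrank F U = 2) (hB : ∀ D v, NoQ (Lin Q D v))
    (hC : ∀ v w E, v ≠ 0 → Q v = 0 → Q w ≠ 0 → polar Q v w = 0 → NoQ (Cos Q v w E))
    (hD : ∀ Y : U →ₗ[F] V, Function.Injective Y → (∀ u, Q (Y u) = 0) → NoQ (St Q N Y))
    (hB' : ∀ N' : QuadraticForm F U, (polarBilin N').Nondegenerate → ∀ v, NoQ (Lin N' ⊥ v))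
    (hA : ∀ W : Submodule F V, finrank F W < finrank F V →
      (polarBilin (Q.restrict W)).Nondegenerate → NoQ (OG (Q.restrict W)))
    (Y : U →ₗ[F] V) : NoQ (St Q N Y) := by
  by_cases hY : Function.Injective Y
  swap
  · rw [injective_iff_map_eq_zero] at hY
    push Not at hY
    obtain ⟨f, h1, h0⟩ := hY
    exact noQ_st_ker hN h2 hB (hB' N hN) h0 h1
  obtain ⟨κ, y, h3, h4⟩ := exists_diff hN h2 (Q.comp Y)
  let π := (MonoidHom.snd _ _).comp (St Q N Y).subtype
  have hπ : Function.Injective π := (injective_iff_map_eq_one _).2 fun p hp => by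
    have hp : p.1.2 = 1 := hp
    exact Subtype.ext (Prod.ext (OG.ext fun u => hY (by rw [← p.2 u, hp]; rfl)) hp)
  have key : ∀ p ∈ St Q N Y, p.1.1 y = y := fun p hp => by
    rw [eq_comm, ← OG.inv_app_eq_iff]
    refine o_eq_of_polar hN fun x => sq_inj ?_
    have a1 := h3 (p.1.1 x)
    rw [comp_apply, ← hp, OG.map_app, ← comp_apply, h3, OG.map_app, add_right_inj] at a1
    rw [polar_comm, OG.polar_inv_right, ← a1, polar_comm]
  by_cases hκ : κ = 0
  · by_cases hy : y = 0
    · exact hD Y hY fun u => by simpa [hκ, hy] using h3 u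
    obtain ⟨f', h1⟩ := o_exists_polar_eq hN hy 1
    let E : AddSubgroup F :=
      { carrier := {c | c + c ^ 2 * N y = 0}
        zero_mem' := by simp
        add_mem' := fun {a b} ha hb => by
          simp only [Set.mem_setOf_eq] at ha hb ⊢
          linear_combination ha + hb + a * b * N y * two0 (F := F)
        neg_mem' := fun {a} ha => by rwa [CharTwo.neg_eq] }
    refine NoQ.of_inj π hπ (hC (Y y) (Y f') E ((map_ne_zero_iff Y hY).2 hy)
      (by simpa [hκ, two0] using h3 y) (by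
        have := h3 f'
        rw [polar_comm, h1, hκ, comp_apply] at this
        simp [this]) (by
        rw [o_polar_congr (Q := Q.comp Y) Y fun _ => rfl, h4, hκ, zero_mul])) (fun p => ?_) ?_
    · have a1 := key p p.2
      have a2 := plane_exp h2 h1 (p.1.1.1 f')
      have a3 := OG.polar_app p.1.1 f' y
      rw [a1, polar_comm N f', h1] at a3
      rw [a3] at a2
      have a4 := OG.map_app p.1.1 f'
      rw [a2] at a4
      simp only [oexp, h1] at a4
      refine ⟨(p.2 y).trans (by rw [a1]), polar N (p.1.1.1 f') f', ?_, (p.2 f').trans ?_⟩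
      · change _ = _
        linear_combination a4
      · rw [a2]
        simp [add_comm, oexp, h1, two0]
    · rintro g ⟨a1, c, hc, a2⟩
      have hc : c + c ^ 2 * N y = 0 := hc
      let d : U →ₗ[F] U := LinearMap.id + c • (polarBilin N y).smulRight y
      have hd : ∀ x, d x = x + (c * polar N y x) • y := fun x => by simp [d, smul_smul]
      have hdd : ∀ x, d (d x) = x := fun x => by
        simp only [hd, oexp, two0]
        simp [add_assoc, vadd_self (F := F)]
      exact ⟨⟨(OG.ofLinear d d hdd hdd fun x => by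
          simp only [hd, oexp, polar_comm N x y]
          linear_combination polar N y x ^ 2 * hc, g),
        plane_ext h2 h1 (A := g.1.toLinearMap ∘ₗ Y) (B := Y ∘ₗ d) (by simp [hd, a1, two0])
          (by simp [hd, a2, h1])⟩, rfl⟩
  · have hnd : (polarBilin (Q.comp Y)).Nondegenerate := o_nondeg_of fun x hx =>
      o_eq_zero hN fun z => by simpa [h4, hκ] using hx z
    refine NoQ.of_inj π hπ (S := π.range) (NoQ.of_emb hQ Y (fun _ => rfl) hnd
      (fun W h5 => hA W (by omega)) (hB' _ hnd y) fun g => ⟨?_, ?_⟩) (fun p => ⟨p, rfl⟩)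
      fun s hs => hs
    · rintro ⟨p, rfl⟩
      exact ⟨⟨p.1.1.1, fun u => by rw [comp_apply, ← p.2, OG.map_app, comp_apply]⟩,
        mem_Lin_bot.2 (key p p.2), p.2⟩
    · rintro ⟨s, hs, hg⟩
      refine ⟨⟨(⟨s.1, fun u => ?_⟩, g), hg⟩, rfl⟩
      have a1 := OG.polar_app s u y
      rw [mem_Lin_bot.1 hs, h4, h4, mul_right_inj' hκ] at a1
      have a2 := OG.map_app s u
      rwa [h3, h3, a1, add_left_inj, mul_right_inj' hκ] at a2

end St

section Split
variable [Finite V]

theorem noQ_split (hQ : (polarBilin Q).Nondegenerate) {S : Submodule F V} (hS : ND Q S)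
    (hS0 : S ≠ ⊥) {w : V} (hw : w ∈ S) (h1 : NoQ (Lin (Q.restrict S) ⊥ ⟨w, hw⟩))
    (hA : ∀ W : Submodule F V, finrank F W < finrank F V →
      (polarBilin (Q.restrict W)).Nondegenerate → NoQ (OG (Q.restrict W))) :
    NoQ (quad_stab Q S ⊓ Lin Q ⊥ w : Subgroup (OG Q)) := by
  have h0 : 0 < finrank F S := by rwa [finrank_pos_iff, Submodule.nontrivial_iff_ne_bot]
  refine NoQ.of_emb hQ S.subtype (fun _ => rfl) hS.nondeg (fun W h => hA W (by omega)) h1
    fun g => ⟨?_, ?_⟩
  · rintro ⟨a1, a2⟩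
    exact ⟨ores g fun x hx => stab_app a1 hx, mem_Lin_bot.2 (Subtype.ext (mem_Lin_bot.1 a2)),
      fun _ => rfl⟩
  · rintro ⟨s, a1, a2⟩
    exact ⟨quad_mem_stab_of_le fun u hu => (a2 ⟨u, hu⟩).symm ▸ (s.1 ⟨u, hu⟩).2,
      mem_Lin_bot.2 ((a2 ⟨w, hw⟩).trans (congrArg Subtype.val (mem_Lin_bot.1 a1)))⟩

theorem nd_ker (hQ : (polarBilin Q).Nondegenerate) {a : End F V}
    (h1 : ∀ x y, polar Q (a x) y = polar Q x (a y)) (h2 : ∀ x, a (a x) = 0 → a x = 0) :
    ND Q (LinearMap.ker a) := by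
  have h3 : LinearMap.ker a = operp Q (LinearMap.range a) := by
    ext x
    rw [LinearMap.mem_ker, mem_operp]
    constructor
    · rintro h _ ⟨y, rfl⟩
      rw [h1, h, polar_zero_right]
    · exact fun h => o_eq_zero hQ fun y => by rw [h1, polar_comm, h _ ⟨y, rfl⟩]
  intro x hx h
  have h4 : x ∈ operp Q (LinearMap.ker a) := mem_operp.2 fun y hy => by rw [polar_comm, h y hy]
  rw [h3, operp_operp hQ] at h4
  obtain ⟨y, rfl⟩ := h4
  exact h2 y hx

/-- The sum of an isometry and its inverse. -/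
def ssum (c : OG Q) : End F V := c.1.toLinearMap + (c⁻¹).1.toLinearMap

omit [Finite V] in
theorem ssum_apply (c : OG Q) (x : V) : ssum c x = c.1 x + (c⁻¹).1 x := rfl

omit [Finite V] in
theorem ssum_comm {c g : OG Q} (h : g * c * g⁻¹ = c ∨ g * c * g⁻¹ = c⁻¹) (x : V) :
    g.1 (ssum c x) = ssum c (g.1 x) := by
  have h1 : ∀ d, g.1 (d.1 x) = (g * d * g⁻¹).1 (g.1 x) := fun d : OG Q => by simp
  rw [ssum_apply, ssum_apply, map_add, h1, h1, show g * c⁻¹ * g⁻¹ = (g * c * g⁻¹)⁻¹ by group]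
  rcases h with h | h <;> rw [h]
  rw [inv_inv, add_comm]

omit [Finite V] in
theorem adjoin_props (c : OG Q) {a : End F V} (ha : a ∈ Algebra.adjoin F {ssum c}) :
    (∀ x y, polar Q (a x) y = polar Q x (a y)) ∧
      ∀ g : OG Q, g * c * g⁻¹ = c ∨ g * c * g⁻¹ = c⁻¹ → ∀ x, g.1 (a x) = a (g.1 x) := by
  obtain ⟨p, rfl⟩ := Algebra.adjoin_mem_exists_aeval F _ ha
  induction p using Polynomial.induction_on with
  | C a => simp [oexp]
  | add p q hp hq =>
    have hp := hp (Polynomial.aeval_mem_adjoin_singleton _ _)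
    have hq := hq (Polynomial.aeval_mem_adjoin_singleton _ _)
    exact ⟨fun x y => by simp [oexp, hp.1, hq.1], fun g hg x => by simp [hp.2 g hg, hq.2 g hg]⟩
  | monomial n a h =>
    have h := h (Polynomial.aeval_mem_adjoin_singleton _ _)
    have h1 : ∀ x y, polar Q (ssum c x) y = polar Q x (ssum c y) := fun x y => by
      rw [ssum_apply, ssum_apply, polar_add_left, polar_add_right, OG.polar_inv_left,
        OG.polar_inv_right, add_comm]
    refine ⟨fun x y => ?_, fun g hg x => ?_⟩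
    · conv_lhs => rw [pow_succ, ← mul_assoc, map_mul, End.mul_apply, h.1, Polynomial.aeval_X, h1]
      conv_rhs => rw [pow_succ, ← mul_assoc, mul_comm, map_mul, End.mul_apply, Polynomial.aeval_X]
    · rw [pow_succ, ← mul_assoc, map_mul, End.mul_apply, End.mul_apply, h.2 g hg,
        Polynomial.aeval_X, ssum_comm hg]

theorem adjoin_red [CharP F 2] {c : OG Q} (hc : Odd (orderOf c)) {a : End F V}
    (ha : a ∈ Algebra.adjoin F {ssum c}) (x : V) (h : a (a x) = 0) : a x = 0 := by
  have h0 := orderOf_pos c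
  have hp : ∀ n : ℕ, c.1.toLinearMap ^ n = (c ^ n).1.toLinearMap := fun n => by
    induction n with
    | zero => rfl
    | succ n ih => rw [pow_succ, pow_succ, ih]; rfl
  have h1 : End.IsSemisimple c.1.toLinearMap := by
    refine End.isSemisimple_of_squarefree_aeval_eq_zero (p := Polynomial.X ^ orderOf c - 1)
      (Polynomial.X_pow_sub_one_separable_iff.2 ?_).squarefree ?_
    · rw [Ne, CharP.cast_eq_zero_iff F 2, ← even_iff_two_dvd]
      exact Nat.not_even_iff_odd.2 hc
    · rw [map_sub, map_pow, Polynomial.aeval_X, hp, pow_orderOf_eq_one, map_one]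
      exact sub_self _
  have h2 : a ∈ Algebra.adjoin F {(c.1.toLinearMap : End F V)} := by
    refine Algebra.adjoin_le (Set.singleton_subset_iff.2 ?_) ha
    have h3 : c⁻¹ = c ^ (orderOf c - 1) := by
      rw [inv_eq_iff_mul_eq_one, ← pow_succ', Nat.sub_add_cancel h0, pow_orderOf_eq_one]
    rw [ssum, h3, ← hp]
    exact add_mem (Algebra.self_mem_adjoin_singleton _ _)
      (pow_mem (Algebra.self_mem_adjoin_singleton _ _) _)
  have h4 := (h1.of_mem_adjoin_singleton h2).isFinitelySemisimple.genEigenspace_eq_eigenspace 0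
    (k := (2 : ℕ)) (by norm_num)
  have h5 : x ∈ End.genEigenspace a 0 (2 : ℕ) := by
    rw [End.mem_genEigenspace_nat]
    simpa [pow_two] using h
  rw [h4, End.mem_eigenspace_iff] at h5
  simpa using h5

end Split

section Ext
variable (E : Type*) [Field E] [Algebra F E] [Module E V] [IsScalarTower F E V] [Finite E]

theorem exists_ext_bilin (hQ : (polarBilin Q).Nondegenerate)
    (h : ∀ (e : E) (x y : V), polar Q (e • x) y = polar Q x (e • y)) :
    ∃ (φ : E →ₗ[F] F) (B : LinearMap.BilinForm E V), (∀ e x y, φ (e * B x y) = polar Q (e • x) y) ∧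
      ∀ b b' : E, (∀ e, φ (e * b) = φ (e * b')) → b = b' := by
  obtain ⟨φ, hφ⟩ : ∃ φ : E →ₗ[F] F, φ 1 ≠ 0 := by
    by_contra h1
    push Not at h1
    exact one_ne_zero ((Module.forall_dual_apply_eq_zero_iff F (1 : E)).1 h1)
  have hu : ∀ b b' : E, (∀ e, φ (e * b) = φ (e * b')) → b = b' := fun b b' h1 => by
    by_contra h2
    have h3 := h1 (b - b')⁻¹
    rw [← sub_eq_zero, ← map_sub, ← mul_sub, inv_mul_cancel₀ (sub_ne_zero.2 h2)] at h3
    exact hφ h3
  let T : E →ₗ[F] Module.Dual F E := (LinearMap.mul F E).flip.compr₂ φ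
  have hT : Function.Surjective T :=
    (LinearMap.injective_iff_surjective_of_finrank_eq_finrank Subspace.dual_finrank_eq.symm).1
      fun b b' h1 => hu b b' fun e => LinearMap.congr_fun h1 e
  have hex : ∀ x y : V, ∃ b : E, ∀ e, φ (e * b) = polar Q (e • x) y := fun x y => by
    obtain ⟨b, hb⟩ := hT ((polarBilin Q).flip y ∘ₗ
      ((LinearMap.toSpanSingleton E V x).restrictScalars F))
    exact ⟨b, fun e => LinearMap.congr_fun hb e⟩
  choose B hB using hex
  refine ⟨φ, LinearMap.mk₂ E B (fun x x' y => hu _ _ fun e => ?_) (fun c x y => hu _ _ fun e => ?_)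
    (fun x y y' => hu _ _ fun e => ?_) (fun c x y => hu _ _ fun e => ?_), fun e x y => hB x y e, hu⟩
  · rw [mul_add, map_add, hB, hB, hB, smul_add, polar_add_left]
  · rw [smul_eq_mul, ← mul_assoc, hB, hB, mul_smul]
  · rw [mul_add, map_add, hB, hB, hB, polar_add_right]
  · rw [smul_eq_mul, ← mul_assoc, hB, hB, ← h, mul_comm, mul_smul]

theorem exists_ext_form [CharP F 2] [Finite V] (hQ : (polarBilin Q).Nondegenerate)
    (h : ∀ (e : E) (x y : V), polar Q (e • x) y = polar Q x (e • y)) (c : OG Q)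
    (hc : ∀ (e : E) x, c.1 (e • x) = e • c.1 x) (hc1 : ∀ x, c.1 x = x → x = 0) :
    ∃ (P : QuadraticForm E V) (ι : OG P →* OG Q), (polarBilin P).Nondegenerate ∧
      ∀ g : OG Q, (∀ (e : E) x, g.1 (e • x) = e • g.1 x) → g * c * g⁻¹ = c ∨ g * c * g⁻¹ = c⁻¹ →
        g ∈ ι.range := by
  have : CharP E 2 := charP_of_injective_algebraMap (algebraMap F E).injective 2
  obtain ⟨φ, B, h1, h2⟩ := exists_ext_bilin E hQ h
  have lin : ∀ g : OG Q, (∀ (e : E) x, g.1 (e • x) = e • g.1 x) →
      ∃ g' : V ≃ₗ[E] V, ∀ x, g' x = g.1 x := fun g hg =>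
    ⟨{ g.1.toAddEquiv with map_smul' := hg }, fun _ => rfl⟩
  have hiso : ∀ g : OG Q, (∀ (e : E) x, g.1 (e • x) = e • g.1 x) →
      ∀ x y, B (g.1 x) (g.1 y) = B x y := fun g hg x y => h2 _ _ fun e => by
    rw [h1, h1, ← hg, OG.polar_app]
  have hsym : ∀ x y, B x y = B y x := fun x y => h2 _ _ fun e => by
    rw [h1, h1, h, polar_comm]
  obtain ⟨c', hc'⟩ := lin c hc
  have hinj : Function.Injective (c'.toLinearMap + LinearMap.id : V →ₗ[E] V) :=
    (injective_iff_map_eq_zero _).2 fun x hx => hc1 x (by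
      have h3 : c' x + x = 0 := hx
      rw [← hc', eq_neg_of_add_eq_zero_left h3, vneg (F := F)])
  let r := LinearEquiv.ofInjectiveEndo _ hinj
  have hr : ∀ x, r x = c.1 x + x := fun x => by simp [r, hc']
  let P : QuadraticForm E V := LinearMap.BilinMap.toQuadraticMap
    (B.comp (c'.toLinearMap ∘ₗ r.symm.toLinearMap) r.symm.toLinearMap)
  have hP : ∀ x, P (c.1 x + x) = B (c.1 x) x := fun x => by simp [P, ← hr, hc']
  have hpol : ∀ x y, polar P x y = B x y := fun x y => by
    obtain ⟨x, rfl⟩ := r.surjective x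
    obtain ⟨y, rfl⟩ := r.surjective y
    rw [polar, ← map_add, hr, hr, hr, hP, hP, hP]
    simp only [map_add, LinearMap.add_apply, hiso c hc, hsym x (c.1 y)]
    linear_combination (-B x y) * two0 (F := E)
  have hφ : ∀ x, φ (P x) = Q x := fun x => by
    obtain ⟨x, rfl⟩ := r.surjective x
    have h3 := h1 1 (c.1 x) x
    rw [one_mul, one_smul] at h3
    rw [hr, hP, h3, o_qadd, OG.map_app, CharTwo.add_self_eq_zero, zero_add]
  refine ⟨P, MonoidHom.mk' (fun g => ⟨g.1.restrictScalars F, fun x => by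
    rw [← hφ, ← hφ]; exact congrArg φ (g.2 x)⟩) fun _ _ => rfl, o_nondeg_of fun x hx => ?_,
    fun g hg hgc => ?_⟩
  · refine o_eq_zero hQ fun y => ?_
    have h3 := h1 1 x y
    rw [← hpol, hx, one_smul] at h3
    simpa using h3.symm
  · obtain ⟨g', hg'⟩ := lin g hg
    refine ⟨⟨g', fun x => ?_⟩, OG.ext hg'⟩
    obtain ⟨x, rfl⟩ := r.surjective x
    have h3 : g.1 (c.1 x) = (g * c * g⁻¹).1 (g.1 x) := by simp
    rw [hg', hr, hP, map_add]
    rcases hgc with h4 | h4
    · rw [h4] at h3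
      rw [h3, hP, ← h3, hiso g hg]
    · rw [h4] at h3
      have h5 : g.1 x = c.1 (g.1 (c.1 x)) := by rw [h3, OG.app_inv_app]
      rw [h5, add_comm, hP, ← h5, hiso g hg, hsym]

end Ext

end Cfsg.Agent.Fs
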