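import Mathlib
import Cfsg.Agent.Fs.GeoD

/-!
# Orthogonal groups in characteristic two have no character of indicator `-1`
-/

set_option autoImplicit false
open Cfsg QuadraticMap Module

namespace Cfsg.Agent.Fs
open Cfsg.Agent.Ch Cfsg.Agent.Cl Cfsg.Agent.Cl.MaxO

universe u

/-- The statement proved by induction on the dimension. -/
structure Good {F V : Type*} [Field F] [AddCommGroup V] [Module F V] (Q : QuadraticForm F V) :
    Prop where
  lin : ∀ D v, NoQ (Lin Q D v)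
  cos : ∀ v w E, v ≠ 0 → Q v = 0 → Q w ≠ 0 → polar Q v w = 0 → NoQ (Cos Q v w E)
  st : ∀ N : QuadraticForm F (F × F), (polarBilin N).Nondegenerate → ∀ Y : F × F →ₗ[F] V,
    Function.Injective Y → (∀ u, Q (Y u) = 0) → NoQ (St Q N Y)

variable {F V : Type u} [Field F] [AddCommGroup V] [Module F V] {Q : QuadraticForm F V}

theorem Good.og (h : Good Q) : NoQ (OG Q) :=
  ((h.lin ⊥ 0).of_eq (K := ⊤) (by simp [mem_Lin])).of_equiv Subgroup.topEquiv

/-- The induction hypothesis. -/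
def IH (n : ℕ) : Prop :=
  ∀ (F V : Type u) [Field F] [Finite F] [CharP F 2] [AddCommGroup V] [Module F V] [Finite V]
    (Q : QuadraticForm F V), (polarBilin Q).Nondegenerate → finrank F V < n → Good Q

variable [Finite F] [CharP F 2] [Finite V] (hQ : (polarBilin Q).Nondegenerate)
  (ih : IH.{u} (finrank F V))
include hQ ih

theorem step_cos {v w : V} (E : AddSubgroup F) (hv0 : v ≠ 0) (hv : Q v = 0) (hw : Q w ≠ 0)
    (hvw : polar Q v w = 0) : NoQ (Cos Q v w E) := by
  obtain ⟨v', h1, h2, h3⟩ := o_exists_partner_perp_one hQ (u := v) (v := w) hv (by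
    rw [Submodule.mem_span_singleton]
    rintro ⟨c, rfl⟩
    have : c = 0 := by simpa [o_qsmul, hw] using hv
    simp [this] at hv0) (by rwa [polar_comm])
  have h : Hyp Q v v' := ⟨hQ, hv, h1, h2⟩
  have hW := ih F _ _ h.ndW.nondeg h.lt
  exact h.cos hvw (by rwa [polar_comm]) hw (fun y E => noQ_cos_ns h.ndW.nondeg
    (fun W a b => (ih F _ _ b (a.trans h.lt)).og) hw (hW.lin _ _)
    (fun v a b c => hW.cos v _ _ a b hw c) y E) E

theorem step_sing (D : Subgroup Fˣ) {v : V} (hv0 : v ≠ 0) (hv : Q v = 0) : NoQ (Lin Q D v) := by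
  obtain ⟨v', h1, h2⟩ := o_exists_partner hQ hv hv0
  have h : Hyp Q v v' := ⟨hQ, hv, h1, h2⟩
  exact h.lin (ih F _ _ h.ndW.nondeg h.lt).lin D

theorem step_split {c : OG Q} (hc : Odd (orderOf c)) {a : End F V}
    (ha : a ∈ Algebra.adjoin F {ssum c}) (ha0 : a ≠ 0) {x : V} (hx : a x = 0) (hx0 : x ≠ 0)
    {w : V} (hw : a w = 0) : ∃ K ≤ Lin Q ⊥ w, NoQ K ∧ ∀ g ∈ Lin Q ⊥ w,
      g * c * g⁻¹ = c ∨ g * c * g⁻¹ = c⁻¹ → g ∈ K := by
  obtain ⟨h1, h2⟩ := adjoin_props c ha
  have hS := nd_ker hQ h1 (adjoin_red hc ha)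
  refine ⟨_, inf_le_right, noQ_split hQ hS (fun h => hx0 ((Submodule.mem_bot F).1 (h ▸ hx))) hw
    ((ih F _ _ hS.nondeg (Submodule.finrank_lt fun h => ha0 (LinearMap.ker_eq_top.1 h))).lin _ _)
    fun W a b => (ih F _ _ b a).og, fun g hg h3 => ⟨quad_mem_stab_of_le fun u hu => ?_, hg⟩⟩
  rw [LinearMap.mem_ker] at hu ⊢
  rw [← h2 g h3, hu, map_zero]

omit hQ ih [Finite F] in
theorem ssum_ne_zero {c : OG Q} (hc : Odd (orderOf c)) (h1 : c ≠ 1) : ssum c ≠ 0 := fun h => by
  have h2 : c = c⁻¹ := OG.ext fun x => by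
    have h2 : c.1 x + (c⁻¹).1 x = 0 := LinearMap.congr_fun h x
    rw [eq_neg_of_add_eq_zero_left h2, vneg (F := F)]
  have h3 : orderOf c ∣ 2 := orderOf_dvd_of_pow_eq_one (by rw [pow_two]; nth_rw 1 [h2]; simp)
  rcases (Nat.dvd_prime Nat.prime_two).1 h3 with h4 | h4
  · exact h1 (orderOf_eq_one_iff.1 h4)
  · rw [h4] at hc
    exact absurd hc (by decide)

omit hQ ih [Finite F] [Finite V] in
theorem ssum_fix {c : OG Q} {w : V} (h : c.1 w = w) : ssum c w = 0 := by
  rw [ssum_apply, (OG.inv_app_eq_iff c).2 h.symm, h, vadd_self (F := F)]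

theorem step_ns (D : Subgroup Fˣ) {w : V} (hw : Q w ≠ 0) : NoQ (Lin Q D w) := by
  refine NoQ.of_eq (S := Lin Q ⊥ w) ?_ fun g => by rw [mem_Lin_of_ne hw, mem_Lin_of_ne hw]
  have hs : ∀ y, ∃ c : F, polar Q y w = 0 → Q (y + c • w) = 0 := fun y => by
    obtain ⟨c, hc⟩ := exists_sq (Q y / Q w)
    refine ⟨c, fun h => ?_⟩
    simp only [oexp, hc, h]
    field_simp
    linear_combination Q y * two0 (F := F)
  by_cases h0 : ∃ v, v ≠ 0 ∧ Q v = 0 ∧ polar Q v w = 0
  swap
  · have h1 : ∀ g ∈ Lin Q ⊥ w, ∀ x, ∃ t : F, g.1 x = x + t • w := fun g hg x => by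
      have h2 := o_polar_fix_sub g (mem_Lin_bot.1 hg) x
      rw [polar_comm] at h2
      obtain ⟨c, hc⟩ := hs (g.1 x - x)
      refine ⟨-c, ?_⟩
      by_contra h3
      refine h0 ⟨_, fun h4 => h3 ?_, hc h2, by rw [polar_add_left, h2]; simp [oexp, two0]⟩
      rw [← sub_eq_zero, ← h4]
      module
    refine NoQ.of_comm fun a b => Subtype.ext (OG.ext fun x => ?_)
    obtain ⟨s, hs⟩ := h1 a a.2 x
    obtain ⟨t, ht⟩ := h1 b b.2 x
    change a.1.1 (b.1.1 x) = b.1.1 (a.1.1 x)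
    simp only [hs, ht, map_add, map_smul, mem_Lin_bot.1 a.2, mem_Lin_bot.1 b.2]
    abel
  obtain ⟨v₀, a1, a2, a3⟩ := h0
  refine NoQ.bw_sub _ fun c hc P hP hodd h2 hpm _ => ?_
  by_cases h1 : c = 1
  · choose t ht using hs
    have uniq : ∀ (v : V) (s : F), Q v = 0 → polar Q v w = 0 → Q (v + s • w) = 0 → s = 0 :=
      fun v s b1 b2 b3 => by simpa [oexp, b1, b2, hw] using b3
    obtain ⟨v, ⟨b1, b2⟩, b3, b4⟩ := exists_fixed h2 {v | Q v = 0 ∧ polar Q v w = 0}
      (fun p hp x hx => ⟨by simpa using hx.1, by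
        rw [← mem_Lin_bot.1 (hP hp), OG.polar_app, hx.2]⟩) (by simp)
      (fun v => v + v₀ + t (v + v₀) • w) (fun x hx => ⟨ht _ (by simp [oexp, hx.2, a3]), by
        simp [oexp, hx.2, a3, two0]⟩) (fun x hx => by
        have e : x + v₀ + t (x + v₀) • w + v₀ + t (x + v₀ + t (x + v₀) • w + v₀) • w =
            x + (t (x + v₀) + t (x + v₀ + t (x + v₀) • w + v₀)) • w := by
          rw [← add_zero x, ← vadd_self (F := F) v₀]
          simp only [vadd_self (F := F) v₀, add_zero]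
          rw [← sub_eq_zero, ← vadd_self (F := F) v₀]
          module
        have := ht (x + v₀ + t (x + v₀) • w + v₀) (by simp [oexp, hx.2, a3, two0])
        rw [e] at this
        simp only [e, uniq _ _ hx.1 hx.2 this, zero_smul, add_zero]) fun x hx h => by
        rw [add_assoc, add_eq_left] at h
        have := uniq v₀ (t (x + v₀)) a2 a3 (by rw [h, map_zero])
        rw [this, zero_smul, add_zero] at h
        exact a1 h
    refine ⟨Cos Q v w ⊥, fun g hg => ?_, h1 ▸ Subgroup.one_mem _,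
      fun p hp => ⟨b4 p hp, 0, rfl, by simpa using mem_Lin_bot.1 (hP hp)⟩,
      step_cos hQ ih ⊥ b3 b1 hw b2⟩
    obtain ⟨-, e, he, h⟩ := hg
    obtain rfl : e = 0 := he
    exact mem_Lin_bot.2 (by simpa using h)
  · have h3 := ssum_fix (mem_Lin_bot.1 hc)
    obtain ⟨K, b1, b2, b3⟩ := step_split hQ ih hodd (Algebra.self_mem_adjoin_singleton F _)
      (ssum_ne_zero hodd h1) h3 (o_ne_zero_of_norm hw) h3
    exact ⟨K, b1, b3 c hc (Or.inl (by group)), fun p hp => b3 p (hP hp) (hpm p hp), b2⟩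

theorem step_st {N : QuadraticForm F (F × F)} (hN : (polarBilin N).Nondegenerate)
    {Y : F × F →ₗ[F] V} (hY : Function.Injective Y) (hY0 : ∀ u, Q (Y u) = 0) : NoQ (St Q N Y) := by
  refine noQ_st_sing hQ hN (by simp) hY hY0 fun W h1 h2 N' h3 Y' => ?_
  have hW := ih F _ _ h2 (by omega)
  exact noQ_st h2 h3 (by simp) hW.lin hW.cos (hW.st N' h3)
    (fun N'' h4 v => (ih F _ _ h4 (by simp; omega)).lin _ _)
    (fun W' a b => (ih F _ _ b (by omega)).og) Y'

theorem step_field {c : OG Q} (h1 : ∀ a ∈ Algebra.adjoin F {ssum c}, a ≠ 0 → ∀ x, a x = 0 → x = 0)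
    (h2 : ∀ t : F, ssum c ≠ algebraMap F _ t) :
    ∃ K : Subgroup (OG Q), NoQ K ∧ ∀ g, g * c * g⁻¹ = c ∨ g * c * g⁻¹ = c⁻¹ → g ∈ K := by
  let E := Algebra.adjoin F {ssum c}
  have hs : ssum c ∈ E := Algebra.self_mem_adjoin_singleton F _
  have hs0 : ssum c ≠ 0 := by simpa using h2 0
  have : Finite (End F V) := Finite.of_injective _ DFunLike.coe_injective
  have hE : IsField E :=
    { exists_pair_ne := ⟨⟨_, hs⟩, 0, fun h => hs0 (congrArg Subtype.val h)⟩
      mul_comm := fun a b => Subtype.ext (Algebra.commute_of_mem_adjoin_singleton_of_commute b.2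
        (Algebra.commute_of_mem_adjoin_self a.2).symm).eq
      mul_inv_cancel := fun {a} ha => (Finite.injective_iff_surjective (f := fun b => a * b)).1
        (fun b b' h => Subtype.ext (LinearMap.ext fun x => by
          rw [← sub_eq_zero]
          refine h1 a a.2 (fun h3 => ha (Subtype.ext h3)) _ ?_
          rw [map_sub, sub_eq_zero]
          exact LinearMap.congr_fun (congrArg Subtype.val h) x)) 1 }
  letI := hE.toField
  have : CharP E 2 := charP_of_injective_algebraMap (algebraMap F E).injective 2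
  obtain ⟨P, ι, a1, a2⟩ := exists_ext_form E hQ (fun e => (adjoin_props c e.2).1) c
    (fun e => (adjoin_props c e.2).2 c (Or.inl (by group))) fun x hx =>
      h1 _ hs hs0 x (ssum_fix hx)
  refine ⟨ι.range, (ih E V P a1 ?_).og.of_surj ι.rangeRestrict ι.rangeRestrict_surjective,
    fun g hg => a2 g (fun e => (adjoin_props c e.2).2 g hg) hg⟩
  have h6 : Nontrivial V := by
    by_contra h
    rw [not_nontrivial_iff_subsingleton] at h
    exact hs0 (Subsingleton.elim _ _)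
  have h3 := Module.finrank_mul_finrank F E V
  have h4 : finrank F E ≠ 1 := fun h => by
    obtain ⟨t, ht⟩ := Algebra.mem_bot.1 (Subalgebra.finrank_eq_one_iff.1 h ▸ hs)
    exact h2 t ht.symm
  have h5 : 0 < finrank F E := finrank_pos
  have h7 : 0 < finrank E V := finrank_pos
  nlinarith [Nat.one_lt_iff_ne_zero_and_ne_one.2 ⟨h5.ne', h4⟩]

theorem step_lin {v : V} (hv : v ≠ 0) (D : Subgroup Fˣ) : NoQ (Lin Q D v) := by
  by_cases h : Q v = 0
  · exact step_sing hQ ih D hv h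
  · exact step_ns hQ ih D h

theorem step_scalar {c : OG Q} {t : F} (ht : t ≠ 0) (h2 : ssum c = algebraMap F _ t)
    {P : Subgroup (OG Q)} (hP : IsPGroup 2 P)
    (hpm : ∀ p ∈ P, p * c * p⁻¹ = c ∨ p * c * p⁻¹ = c⁻¹) {p : OG Q} (hp : p ∈ P) (hp1 : p ≠ 1)
    (hpc : p * c * p⁻¹ = c) : ∃ K : Subgroup (OG Q), c ∈ K ∧ P ≤ K ∧ NoQ K := by
  have h3 : ∀ x, (c⁻¹).1 x = c.1 x + t • x := fun x => by
    have : c.1 x + (c⁻¹).1 x = t • x := LinearMap.congr_fun h2 x
    rw [← this, ← add_assoc, vadd_self (F := F), zero_add]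
  have h4 : ∀ x, c.1 (c.1 x) = x + t • c.1 x := fun x => by
    have := h3 (c.1 x)
    rw [OG.inv_app_app] at this
    conv_rhs => rw [this, add_assoc, ← this, vadd_self (F := F), add_zero]
  have hcj : ∀ g x, g.1 (c.1 x) = (g * c * g⁻¹).1 (g.1 x) := fun g : OG Q => by simp
  let C : Submodule F V :=
    { carrier := {x | ∀ q ∈ P, q * c * q⁻¹ = c → q.1 x = x}
      zero_mem' := fun _ _ _ => map_zero _
      add_mem' := fun hx hy q a b => by rw [map_add, hx q a b, hy q a b]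
      smul_mem' := fun a x hx q b d => by rw [map_smul, hx q b d] }
  have hC : ∀ g ∈ P, ∀ x ∈ C, g.1 x ∈ C := fun g hg x hx q hq hqc => by
    have h5 := hx (g⁻¹ * q * g) (P.mul_mem (P.mul_mem (P.inv_mem hg) hq) hg) (by
      have h6 : q * c⁻¹ * q⁻¹ = c⁻¹ := by rw [← inv_inj]; simpa [mul_assoc] using hpc ▸ hqc
      calc g⁻¹ * q * g * c * (g⁻¹ * q * g)⁻¹ = g⁻¹ * (q * (g * c * g⁻¹) * q⁻¹) * g := by group
        _ = g⁻¹ * (g * c * g⁻¹) * g := by rcases hpm g hg with h | h <;> simp only [h, hqc, h6]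
        _ = c := by group)
    rwa [OG.mul_app, OG.mul_app, OG.inv_app_eq_iff] at h5
  have hCc : ∀ x ∈ C, c.1 x ∈ C := fun x hx q hq hqc => by rw [hcj, hqc, hx q hq hqc]
  have hperp : ∀ g : OG Q, (∀ x ∈ C, (g⁻¹).1 x ∈ C) → ∀ x ∈ operp Q C, g.1 x ∈ operp Q C :=
    fun g hg x hx => mem_operp.2 fun y hy => by
      rw [← OG.polar_inv_left, mem_operp.1 hx _ (hg y hy)]
  obtain ⟨s, hs, hs0⟩ : ∃ s ∈ operp Q C, s ≠ 0 := by
    rw [← Submodule.ne_bot_iff]
    intro h
    have h5 := finrank_operp hQ C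
    rw [h, finrank_bot, zero_add] at h5
    have h6 := Submodule.eq_top_of_finrank_eq h5
    exact hp1 (OG.ext fun x => (h6 ▸ Submodule.mem_top : x ∈ C) p hp hpc)
  obtain ⟨u, hu, hu0, hu1⟩ := exists_fixed_sub hP _
    (fun g hg => hperp g (hC _ (P.inv_mem hg))) hs hs0
  by_cases h5 : Function.Injective (pl u (c.1 u) : F × F →ₗ[F] V)
  swap
  · rw [injective_iff_map_eq_zero] at h5
    push Not at h5
    obtain ⟨⟨a, b⟩, h6, h7⟩ := h5
    rw [pl_apply] at h6
    have hb : b ≠ 0 := by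
      rintro rfl
      exact h7 (by simpa [hu0] using h6)
    have h8 : c.1 u = (-a / b) • u := by
      rw [← smul_right_inj hb, smul_smul, mul_div_cancel₀ _ hb, neg_smul]
      exact eq_neg_of_add_eq_zero_right h6
    refine ⟨Lin Q ⊤ u, ⟨Units.mk0 (-a / b) fun h => ?_, trivial, h8⟩,
      fun g hg => ⟨1, trivial, by simpa using hu1 g hg⟩, step_lin hQ ih hu0 ⊤⟩
    rw [h, zero_smul] at h8
    exact OG.app_ne_zero c hu0 h8
  have huC : u ∈ C := fun q hq _ => hu1 q hq
  have b1 : polar Q (c.1 u) u = 0 := mem_operp.1 hu _ (hCc u huC)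
  have b2 : Q u = 0 := by
    have b3 : Q (c.1 u + u) = 0 := by
      rw [o_qadd, OG.map_app, b1, CharTwo.add_self_eq_zero, zero_add]
    have b4 : polar Q (c.1 (c.1 u + u)) (c.1 u + u) = 0 := by
      rw [map_add, h4]
      simp [oexp, b1, two0, polar_comm Q u]
    have b5 : c.1 (c.1 u + u) + (c.1 u + u) = t • c.1 u := by
      rw [map_add, h4, ← sub_eq_zero, ← vadd_self (F := F) (u + c.1 u)]
      abel
    have b6 := o_qadd Q (c.1 (c.1 u + u)) (c.1 u + u)
    rw [b5, b4, OG.map_app, b3, o_qsmul, OG.map_app] at b6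
    simpa [ht] using b6
  let N : QuadraticForm F (F × F) := linMulLin (LinearMap.fst F F F) (LinearMap.fst F F F) +
    t • linMulLin (LinearMap.fst F F F) (LinearMap.snd F F F) +
    linMulLin (LinearMap.snd F F F) (LinearMap.snd F F F)
  have hN : ∀ a, N a = a.1 * a.1 + t * (a.1 * a.2) + a.2 * a.2 := fun _ => rfl
  have hN' : (polarBilin N).Nondegenerate := o_nondeg_of fun a ha => by
    have b3 := ha (1, 0)
    have b4 := ha (0, 1)
    simp only [polar, hN, Prod.fst_add, Prod.snd_add] at b3 b4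
    ext
    · exact mul_left_cancel₀ ht (by
        rw [Prod.fst_zero]; linear_combination b4 - a.2 * two0 (F := F))
    · exact mul_left_cancel₀ ht (by
        rw [Prod.snd_zero]; linear_combination b3 - a.1 * two0 (F := F))
  refine ⟨(St Q N (pl u (c.1 u))).map (MonoidHom.snd _ _), ?_, fun g hg => ?_,
    (step_st hQ ih hN' h5 fun a => by simp [oexp, b2, polar_comm Q u, b1]).of_range_sub _
      (fun g hg => ⟨g, hg, rfl⟩) fun k hk => hk⟩
  · refine ⟨(OG.ofLinear (pl (0, 1) (1, t)) (pl (t, 1) (1, 0)) (fun a => ?_) (fun a => ?_)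
      fun a => ?_, c), fun a => ?_, rfl⟩
    · ext <;> simp
      linear_combination a.1 * t * two0 (F := F)
    · ext <;> simp
      linear_combination a.2 * t * two0 (F := F)
    · simp [hN]
      linear_combination (a.1 * a.2 * t + a.2 ^ 2 * t ^ 2) * two0 (F := F)
    · change c.1 _ = pl _ _ (pl (0, 1) (1, t) a)
      simp [h4]
      module
  · rcases hpm g hg with h | h
    · exact ⟨(1, g), fun a => by simp [hcj g, h, hu1 g hg], rfl⟩
    · have hdd : ∀ a : F × F, pl ((1 : F), (0 : F)) (t, 1) (pl ((1 : F), (0 : F)) (t, 1) a) = a :=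
        fun a => by
          ext <;> simp
          linear_combination a.2 * t * two0 (F := F)
      refine ⟨(OG.ofLinear (pl (1, 0) (t, 1)) (pl (1, 0) (t, 1)) hdd hdd fun a => ?_, g),
        fun a => ?_, rfl⟩
      · simp [hN]
        linear_combination (a.1 * a.2 * t + a.2 ^ 2 * t ^ 2) * two0 (F := F)
      · change g.1 _ = pl _ _ (pl (1, 0) (t, 1) a)
        simp only [pl_apply, map_add, map_smul, hcj g, h, hu1 g hg, h3]
        simp
        module

theorem step_og : NoQ (OG Q) := by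
  refine NoQ.brauerWitt' fun c P hodd hP hpm ⟨p, hp, hp1, hpc⟩ => ?_
  by_cases h1 : c = 1
  · obtain ⟨s, hs⟩ : ∃ s : V, s ≠ 0 := by
      by_contra h
      push Not at h
      exact hp1 (OG.ext fun x => by rw [h x, map_zero, map_zero])
    obtain ⟨u, -, hu0, hu⟩ := exists_fixed_sub hP ⊤ (fun _ _ _ _ => trivial) trivial hs
    exact ⟨Lin Q ⊥ u, h1 ▸ Subgroup.one_mem _, fun g hg => mem_Lin_bot.2 (hu g hg),
      step_lin hQ ih hu0 ⊥⟩
  by_cases h2 : ∃ t : F, ssum c = algebraMap F _ t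
  · obtain ⟨t, ht⟩ := h2
    exact step_scalar hQ ih (fun h => ssum_ne_zero hodd h1 (by simp [ht, h])) ht hP hpm hp hp1 hpc
  by_cases h3 : ∀ a ∈ Algebra.adjoin F {ssum c}, a ≠ 0 → ∀ x, a x = 0 → x = 0
  · obtain ⟨K, b1, b2⟩ := step_field hQ ih h3 (not_exists.1 h2)
    exact ⟨K, b2 c (Or.inl (by group)), fun g hg => b2 g (hpm g hg), b1⟩
  · push Not at h3
    obtain ⟨a, ha, ha0, x, hx, hx0⟩ := h3
    obtain ⟨K, -, b1, b2⟩ := step_split hQ ih hodd ha ha0 hx hx0 (map_zero a)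
    exact ⟨K, b2 c (by simp [mem_Lin]) (Or.inl (by group)),
      fun g hg => b2 g (by simp [mem_Lin]) (hpm g hg), b1⟩

omit hQ ih in
theorem ih_all (n : ℕ) : IH.{u} n := by
  induction n with
  | zero => exact fun _ _ _ _ _ _ _ _ _ _ h => absurd h (Nat.not_lt_zero _)
  | succ n ih =>
    intro F V _ _ _ _ _ _ Q hQ hn
    rcases (Nat.lt_succ_iff.1 hn).lt_or_eq with h | rfl
    · exact ih F V Q hQ h
    refine ⟨fun D v => ?_, fun v w E => step_cos hQ ih E, fun N hN Y => step_st hQ ih hN⟩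
    by_cases hv : v = 0
    · exact (step_og hQ ih).top fun g => ⟨1, D.one_mem, by simp [hv]⟩
    · exact step_lin hQ ih hv D

omit ih in
theorem good : Good Q := ih_all _ F V Q hQ (Nat.lt_succ_self _)

end Cfsg.Agent.Fs
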