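import Mathlib
import Cfsg.Agent.Fs.GeoA
import Cfsg.Agent.Cl.OreSpA
import Cfsg.Agent.Cl.ClassTwoB
import Cfsg.Agent.Cl.OrthSpecFit

/-! In characteristic two every isometry of a nondegenerate quadratic space of dimension `2 m` is
inverted by an isometry whose Dickson invariant is `m`. -/

set_option autoImplicit false

open Cfsg QuadraticMap Module

namespace Cfsg.Agent.Fs

open Cfsg.Agent.Cl Cfsg.Agent.Cl.SpO Cfsg.Agent.Cl.Two

variable {F V : Type*} [Field F] [AddCommGroup V] [Module F V] {Q : QuadraticForm F V}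

/-- `g` is inverted by an isometry of Dickson invariant half the dimension. -/
def Rv (g : OG Q) : Prop :=
  ∃ (x : OG Q) (m : ℕ), g * x * g = x ∧ finrank F V = 2 * m ∧ Even (orank x + m)

/-- The span of the vectors `(g - 1) ^ i u`. -/
def Cy (g : End F V) (u : V) : Submodule F V := Submodule.span F (Set.range fun i => nn g i u)

theorem nn_mem_Cy (g : End F V) (i : ℕ) (u : V) : nn g i u ∈ Cy g u :=
  Submodule.subset_span ⟨i, rfl⟩

theorem Cy_inv (g : End F V) (u : V) : ∀ x ∈ Cy g u, g x ∈ Cy g u := fun x hx =>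
  (Submodule.span_le (p := (Cy g u).comap g)).2 (by
    rintro _ ⟨i, rfl⟩
    change g _ ∈ Cy g u
    rw [apply_eq, nn_nn]
    exact add_mem (nn_mem_Cy _ _ _) (nn_mem_Cy _ _ _)) hx

theorem Cy_le {g : End F V} {U : Submodule F V} (hU : ∀ x ∈ U, g x ∈ U) {u : V} (hu : u ∈ U) :
    Cy g u ≤ U := Submodule.span_le.2 (by
  rintro _ ⟨i, rfl⟩
  exact Module.End.pow_apply_mem_of_forall_mem _ (fun y hy => sub_mem (hU y hy) hy) _ hu)

theorem finrank_Cy_le {g : End F V} {h : ℕ} {u : V} (hu : nn g h u = 0) :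
    finrank F (Cy g u) ≤ h := by
  have : Cy g u = Submodule.span F (Set.range fun i : Fin h => nn g i u) :=
    le_antisymm (Submodule.span_le.2 (by
      rintro _ ⟨i, rfl⟩
      rcases lt_or_ge i h with hi | hi
      · exact Submodule.subset_span ⟨⟨i, hi⟩, rfl⟩
      · obtain ⟨d, rfl⟩ := Nat.exists_eq_add_of_le' hi
        change nn g _ u ∈ _
        rw [← nn_nn, hu, map_zero]
        exact zero_mem _)) (Submodule.span_mono (by rintro _ ⟨i, rfl⟩; exact ⟨i, rfl⟩))
  rw [this]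
  exact (finrank_range_le_card (R := F) fun i : Fin h => nn g i u).trans (by simp)

theorem exists_og {ι : Type*} (hQ : (polarBilin Q).Nondegenerate) {f f' : ι → V}
    (hf : Submodule.span F (Set.range f) = ⊤) (hf' : Submodule.span F (Set.range f') = ⊤)
    (hG : ∀ i k, polarBilin Q (f' i) (f' k) = polarBilin Q (f i) (f k))
    (hq : ∀ i, Q (f' i) = Q (f i)) : ∃ x : OG Q, ∀ i, x.1 (f i) = f' i := by
  obtain ⟨e, e1, e2⟩ := exists_gram hQ hQ hf hf' hG
  refine ⟨⟨e, fun x => ?_⟩, e1⟩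
  refine Submodule.span_induction (p := fun x _ => Q (e x) = Q x) ?_ (by simp)
    (fun x y _ _ hx hy => by rw [map_add, q_add, q_add, hx, hy, e2])
    (fun c x _ hx => by rw [map_smul, q_smul, q_smul, hx]) (hf ▸ Submodule.mem_top (x := x))
  rintro _ ⟨i, rfl⟩
  rw [e1, hq]

variable [FiniteDimensional F V]

theorem Rv.glue {U W : Submodule F V} (hc : IsCompl U W)
    (ho : ∀ u ∈ U, ∀ w ∈ W, polar Q u w = 0) {g : OG Q} (hU : ∀ x ∈ U, g.1 x ∈ U)
    (hW : ∀ x ∈ W, g.1 x ∈ W) (h1 : Rv (ores g hU)) (h2 : Rv (ores g hW)) : Rv g := by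
  obtain ⟨a, m, a1, a2, a3⟩ := h1
  obtain ⟨b, n, b1, b2, b3⟩ := h2
  let e := Submodule.prodEquivOfIsCompl _ _ hc
  have he : ∀ v, Q (e v) = (Q.restrict U).prod (Q.restrict W) v := fun v => by
    rw [Submodule.coe_prodEquivOfIsCompl', o_qadd, ho _ v.1.2 _ v.2.2, add_zero]
    rfl
  have h1 : OG.congr e he (OG.prod (ores g hU) (ores g hW)) = g := OG.ext fun v => by
    obtain ⟨w, rfl⟩ := e.surjective v
    rw [OG.congr_app, e.symm_apply_apply, OG.prod_app, Submodule.coe_prodEquivOfIsCompl',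
      Submodule.coe_prodEquivOfIsCompl', map_add]
    rfl
  refine ⟨OG.congr e he (OG.prod a b), m + n, ?_, ?_, ?_⟩
  · have h2 := congrArg (OG.congr e he) (congrArg₂ OG.prod a1 b1)
    rwa [OG.prod_mul, OG.prod_mul, map_mul, map_mul, h1] at h2
  · rw [← Submodule.finrank_add_eq_of_isCompl hc, a2, b2, mul_add]
  · rw [orank_congr, orank_prod, add_add_add_comm]
    exact a3.add b3

variable [CharP F 2]

theorem Rv.of_odd (hQ : (polarBilin Q).Nondegenerate) {g x : OG Q} (h : g * x * g = x)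
    (ho : Odd (orank g)) : Rv g := by
  obtain ⟨m, hm⟩ := OS.even_of_two two0 hQ
  by_cases h1 : Even (orank x + m)
  · exact ⟨x, m, h, hm, h1⟩
  refine ⟨x * g, m, by rw [← mul_assoc, h], hm, ?_⟩
  have h2 : dickson hQ (x * g) = 1 ↔ dickson hQ x = -1 := by
    rw [map_mul, (dickson_eq_neg_one_iff hQ g).2 ho, mul_neg_one, neg_eq_iff_eq_neg]
  rw [dickson_eq_one_iff, dickson_eq_neg_one_iff, ← Nat.not_even_iff_odd] at h2
  rw [Nat.even_add] at h1 ⊢
  tauto

theorem Rv.of_inv (hQ : (polarBilin Q).Nondegenerate) {g x : OG Q} (h : g * x * g = x)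
    (h2 : ∀ v, x.1 (x.1 v) = v) (A : Submodule F V) (hA : finrank F V ≤ 2 * finrank F A)
    (hA' : ∀ a ∈ A, x.1 a = a → a = 0) : Rv g := by
  obtain ⟨m, hm⟩ := OS.even_of_two two0 hQ
  have h3 : orank x ≤ finrank F (ofix x) := Submodule.finrank_mono fun v hv => by
    obtain ⟨y, rfl⟩ := mem_ocomm.1 hv
    rw [mem_ofix, map_sub, h2, vsub (F := F), vsub (F := F), add_comm]
  have h4 := Submodule.finrank_add_finrank_le_of_disjoint (s := A) (t := ofix x)
    (Submodule.disjoint_def.2 fun a ha hx => hA' a ha (mem_ofix.1 hx))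
  have h5 := orank_add_finrank_ofix x
  exact ⟨x, m, h, hm, ⟨m, by omega⟩⟩

omit [FiniteDimensional F V] in
theorem oset (g : OG Q) : OreSp.Set (polarBilin Q) (specO Q g) (specO Q g⁻¹) :=
  ⟨fun x => b_self x, fun x y => OG.polar_app g x y, by rw [← map_mul, mul_inv_cancel, map_one],
    by rw [← map_mul, inv_mul_cancel, map_one]⟩

section Swap
variable {g k : End F V} (S : OreSp.Set (polarBilin Q) g k)
include S
omit [FiniteDimensional F V]

theorem q_nn_inv (hk : ∀ v, Q (k v) = Q v) (j : ℕ) : ∀ w, Q (nn k j w) = Q (nn g j w) := by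
  induction j with
  | zero => simp
  | succ j ih =>
    intro w
    have : nn k 1 w = k (nn g 1 w) := by simp [nn, S.kg_apply, vsub (F := F), add_comm]
    rw [← nn_nn, this, ← apply_nn, hk, ih, nn_nn]

omit [CharP F 2] in
theorem b_nn_inv (j : ℕ) : ∀ a b, polarBilin Q (nn k j a) b = polarBilin Q a (nn g j b) := by
  induction j with
  | zero => simp
  | succ j ih =>
    intro a b
    rw [← nn_nn j 1 b, ← ih, add_comm j 1, ← nn_nn 1 j a]
    generalize nn k j a = c
    simp [-polarBilin_apply_apply, nn, S.move']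

omit [CharP F 2] in
theorem b_cross (i j : ℕ) (u v : V) :
    polarBilin Q (nn k i v) (nn k j u) = polarBilin Q (nn g i u) (nn g j v) := by
  have h : Commute (nn g i) (nn k j) :=
    ((S.comm.sub_left (Commute.one_left _)).sub_right (Commute.one_right _)).pow_pow i j
  rw [b_nn_inv S, show nn g i (nn k j u) = nn k j (nn g i u) from LinearMap.congr_fun h.eq u,
    b_comm, b_nn_inv S]

end Swap

theorem exists_swap (hQ : (polarBilin Q).Nondegenerate) (g : OG Q) {u v : V}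
    (ht : Cy (specO Q g) u ⊔ Cy (specO Q g) v = ⊤)
    (hq : ∀ j, Q (nn (specO Q g) j u) = Q (nn (specO Q g) j v)) :
    ∃ x : OG Q, g * x * g = x ∧ (∀ w, x.1 (x.1 w) = w) ∧
      ∀ a ∈ Cy (specO Q g) u, x.1 a ∈ Cy (specO Q g) v := by
  have S := oset g
  have hG : ∀ w, Q (specO Q g w) = Q w := g.2
  have hK : ∀ w, Q (specO Q g⁻¹ w) = Q w := g⁻¹.2
  have e0 : ∀ w, specO Q g w = g.1 w := fun _ => rfl
  generalize specO Q g = G at *
  generalize specO Q g⁻¹ = K at *
  have s1 : ∀ (T : End F V) (a b : V), Cy T a ⊔ Cy T b ≤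
      Submodule.span F (Set.range fun i : ℕ × Bool => nn T i.1 (cond i.2 a b)) := fun T a b =>
    sup_le (Submodule.span_mono (by rintro _ ⟨i, rfl⟩; exact ⟨(i, true), rfl⟩))
      (Submodule.span_mono (by rintro _ ⟨i, rfl⟩; exact ⟨(i, false), rfl⟩))
  have s2 : ∀ a, Cy G a ≤ Cy K a := fun a =>
    Cy_le (S.symm.inv_mem (Cy_inv K a)) (nn_mem_Cy K 0 a)
  have s3 := top_le_iff.1 (ht ▸ s1 G u v)
  have q1 := q_nn_inv S hK
  obtain ⟨x, hx⟩ := exists_og hQ s3 (top_le_iff.1 ((ht.ge.trans ((sup_le_sup (s2 u) (s2 v)).trans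
    (sup_comm _ _).le)).trans (s1 K v u))) (by
      rintro ⟨i, _ | _⟩ ⟨j, _ | _⟩
      · exact gram_self hG hK (fun j => (q1 _ _).trans (hq _)) i j
      · exact b_cross S i j v u
      · exact b_cross S i j u v
      · exact gram_self hG hK (fun j => (q1 _ _).trans (hq _).symm) i j) (by
      rintro ⟨i, _ | _⟩
      exacts [(q1 _ _).trans (hq _), (q1 _ _).trans (hq _).symm])
  have h1 : (x.1 : V →ₗ[F] V) ∘ₗ nn G 1 = nn K 1 ∘ₗ x.1 := LinearMap.ext_on_range s3 fun i => by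
    simp only [LinearMap.comp_apply, LinearEquiv.coe_coe, hx, nn_nn]
    exact hx (1 + i.1, i.2)
  have h2 : ∀ w, x.1 (G w) = K (x.1 w) := fun w => by
    rw [apply_eq w, apply_eq (x.1 w), map_add]
    exact congrArg (· + _) (LinearMap.congr_fun h1 w)
  have h3 : ∀ i w, x.1 (nn K i w) = nn G i (x.1 w) := fun i =>
    intertwine_sub_one_pow (e := (x.1 : V →ₗ[F] V)) (fun w => by
      rw [LinearEquiv.coe_coe, ← S.gk_apply (x.1 (K w)), ← h2, S.gk_apply]) i
  refine ⟨x, OG.ext fun w => ?_, fun w => ?_, fun a ha => ?_⟩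
  · rw [OG.mul_app, OG.mul_app, ← e0, ← e0, h2, S.gk_apply]
  · have : (x.1 : V →ₗ[F] V) ∘ₗ x.1 = LinearMap.id := LinearMap.ext_on_range s3 fun i => by
      simp only [LinearMap.comp_apply, LinearEquiv.coe_coe, hx, h3, LinearMap.id_apply]
      rcases i with ⟨i, _ | _⟩
      exacts [congrArg _ (hx (0, true)), congrArg _ (hx (0, false))]
    exact LinearMap.congr_fun this w
  · refine (Submodule.span_le (p := (Cy G v).comap (x.1 : V →ₗ[F] V))).2 ?_ ha
    rintro _ ⟨i, rfl⟩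
    exact (congrArg (· ∈ Cy G v) (hx (i, true))).mpr
      (Cy_le (S.inv_mem (Cy_inv G v)) (nn_mem_Cy G 0 v) (nn_mem_Cy K i v))

theorem rv_of_bi (hQ : (polarBilin Q).Nondegenerate) (g : OG Q) (h1 : ∀ z, g.1 z = z → z = 0)
    (h : OreSp.Bi (polarBilin Q) (specO Q g) ⊤) : Rv g := by
  obtain ⟨L, hL, t1, t2⟩ := h
  have S := oset g
  have hG : ∀ w, Q (specO Q g w) = Q w := g.2
  have hK : ∀ w, Q (specO Q g⁻¹ w) = Q w := g⁻¹.2
  have e0 : ∀ w, specO Q g w = g.1 w := fun _ => rfl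
  generalize specO Q g = G at *
  generalize specO Q g⁻¹ = K at *
  have d0 := LinearEquiv.finrank_eq (Submodule.equivMapOfInjective G (S.isom.injective hQ) L)
  have d1 : finrank F V ≤ 2 * finrank F L := by
    have := Submodule.finrank_sup_add_finrank_inf_eq L (L.map G)
    rw [hL, finrank_top] at this
    omega
  have d2 : L = operp Q L := Submodule.eq_of_le_of_finrank_le
    (fun x hx => mem_operp.2 fun y hy => t1 _ hy _ hx) (by have := finrank_operp hQ L; omega)
  have t3 : ∀ x ∈ L, ∀ y ∈ L, polarBilin Q (K x) y = polarBilin Q (G x) y := fun x hx y hy => by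
    rw [S.move', eq_neg_of_add_eq_zero_left (t2 x hx y hy), CharTwo.neg_eq]
  have d3 : ∀ l ∈ L, G l + K l ∈ L := fun l hl => d2 ▸ mem_operp.2 fun y hy => by
    change polarBilin Q _ _ = 0
    rw [b_comm, map_add, LinearMap.add_apply, t3 l hl y hy, CharTwo.add_self_eq_zero]
  have s1 : ∀ T : End F V, L ⊔ L.map T ≤
      Submodule.span F (Set.range fun i : L × Bool => cond i.2 (i.1 : V) (T i.1)) := fun T =>
    sup_le (fun x hx => Submodule.subset_span ⟨(⟨x, hx⟩, true), rfl⟩) (by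
      rintro _ ⟨x, hx, rfl⟩
      exact Submodule.subset_span ⟨(⟨x, hx⟩, false), rfl⟩)
  have s2 : L.map G ≤ L ⊔ L.map K := by
    rintro _ ⟨x, hx, rfl⟩
    simpa using sub_mem (Submodule.mem_sup_left (d3 x hx))
      (Submodule.mem_sup_right (S := L) (Submodule.mem_map_of_mem (f := K) hx))
  have s3 := top_le_iff.1 (hL ▸ s1 G)
  obtain ⟨x, hx⟩ := exists_og hQ s3
    (top_le_iff.1 ((hL.ge.trans (sup_le le_sup_left s2)).trans (s1 K))) (by
      rintro ⟨i, _ | _⟩ ⟨j, _ | _⟩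
      · exact (S.isom' _ _).trans (S.isom _ _).symm
      · exact t3 _ i.2 _ j.2
      · exact (b_comm _ _).trans ((t3 _ j.2 _ i.2).trans (b_comm _ _))
      · rfl) (by
      rintro ⟨i, _ | _⟩
      exacts [(hK _).trans (hG _).symm, rfl])
  have x1 : ∀ l ∈ L, x.1 l = l := fun l hl => hx (⟨l, hl⟩, true)
  have x2 : ∀ l ∈ L, x.1 (G l) = K l := fun l hl => hx (⟨l, hl⟩, false)
  have h2 : (x.1 : V →ₗ[F] V) ∘ₗ G = K ∘ₗ x.1 := LinearMap.ext_on_range s3 (by
    rintro ⟨⟨l, hl⟩, _ | _⟩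
    · have : G (G l) = G (G l + K l) - l := by simp [S.gk_apply]
      change x.1 (G (G l)) = K (x.1 (G l))
      rw [this, map_sub, x2 _ (d3 l hl), x1 l hl, x2 l hl, map_add, S.kg_apply, add_sub_cancel_left]
    · change x.1 (G l) = K (x.1 l)
      rw [x1 l hl, x2 l hl])
  have h3 : (x.1 : V →ₗ[F] V) ∘ₗ x.1 = LinearMap.id := LinearMap.ext_on_range s3 (by
    rintro ⟨⟨l, hl⟩, _ | _⟩
    · change x.1 (x.1 (G l)) = G l
      rw [x2 l hl, ← add_sub_cancel_left (G l) (K l), map_sub, x1 _ (d3 l hl), x2 l hl,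
        add_sub_cancel_right]
    · change x.1 (x.1 l) = l
      rw [x1 l hl, x1 l hl])
  refine Rv.of_inv hQ (x := x) (OG.ext fun w => ?_) (LinearMap.congr_fun h3) (L.map G)
    (d0 ▸ d1) ?_
  · rw [OG.mul_app, OG.mul_app, ← e0, ← e0, show x.1 (G w) = K (x.1 w) from
      LinearMap.congr_fun h2 w, S.gk_apply]
  · rintro _ ⟨l, hl, rfl⟩ h
    rw [x2 l hl] at h
    have h4 := h1 (G l + l) (by rw [← e0, map_add, ← h, S.gk_apply, h, add_comm])
    rw [h1 l (by rw [← e0, eq_neg_of_add_eq_zero_left h4, vneg (F := F)]), map_zero]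

theorem exists_pair [Finite F] {g : End F V} {h : ℕ} (H : Uni Q g (h + 1)) {u v : V}
    (hβ : polarBilin Q (nn g h u) v ≠ 0) (ha : ∀ w, polarBilin Q (nn g h w) w = 0) :
    ∃ u v, polarBilin Q (nn g h u) v ≠ 0 ∧ ∀ j, Q (nn g j u) = Q (nn g j v) := by
  rcases Nat.even_or_odd' h with ⟨l, rfl | rfl⟩
  · have key : ∀ {u v : V}, polarBilin Q (nn g (2 * l) u) v ≠ 0 → ∃ x, nn g (2 * l) x = 0 ∧
        ∀ j, Q (nn g j (u + x)) = if j = l then Q (nn g l u) else 0 := by
      intro u v hβ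
      obtain ⟨x, -, a2, a3, a4⟩ := H.hensel' (M := ⊤) (fun _ _ => trivial) l (u := u) (w := v)
        trivial (fun j hj => H.mz (by omega) _ _) (by rwa [H.mv (by omega)])
        fun j hj => H.qz (by omega) _
      refine ⟨x, a2, fun j => ?_⟩
      rcases lt_trichotomy j l with hj | rfl | hj
      exacts [by rw [a3 j hj, if_neg hj.ne], by rw [a4 j le_rfl, if_pos rfl],
        by rw [H.qz (by omega), if_neg hj.ne']]
    have fin : ∀ {u v : V}, polarBilin Q (nn g (2 * l) u) v ≠ 0 →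
        Q (nn g l u) = Q (nn g l v) →
        ∃ u v, polarBilin Q (nn g (2 * l) u) v ≠ 0 ∧ ∀ j, Q (nn g j u) = Q (nn g j v) := by
      intro u v hβ hq
      obtain ⟨x, a1, a2⟩ := key hβ
      obtain ⟨y, b1, b2⟩ := key (H.symm u v ▸ hβ)
      refine ⟨u + x, v + y, ?_, fun j => by rw [a2, b2, hq]⟩
      rwa [map_add (nn g _), a1, add_zero, map_add, H.symm u y, b1, map_zero, LinearMap.zero_apply,
        add_zero]
    have aux : ∀ {a b : V}, polarBilin Q (nn g (2 * l) a) b ≠ 0 → Q (nn g l a) ≠ 0 →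
        ∃ u v, polarBilin Q (nn g (2 * l) u) v ≠ 0 ∧ ∀ j, Q (nn g j u) = Q (nn g j v) := by
      intro a b hβ hq
      refine fin (u := b) (v := b + (polarBilin Q (nn g (2 * l) a) b / Q (nn g l a)) • a) ?_ ?_
      · rw [map_add, ha, zero_add, map_smul, H.symm b a]
        exact mul_ne_zero (div_ne_zero hβ hq) hβ
      · rw [map_add, map_smul, q_add, q_smul, map_smul, b_comm (nn g l b), H.mv (by omega),
          smul_eq_mul]
        generalize polarBilin Q (nn g (2 * l) a) b = c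
        field_simp
        linear_combination -c ^ 2 * two0 (F := F)
    by_cases h1 : Q (nn g l u) = 0
    · by_cases h2 : Q (nn g l v) = 0
      exacts [fin hβ (h1.trans h2.symm), aux (H.symm u v ▸ hβ) h2]
    · exact aux hβ h1
  · have h0 : ∀ w, Q (nn g ((2 * l + 1 + 1) / 2) w) = 0 := fun w => by
      rw [show (2 * l + 1 + 1) / 2 = l + 1 by omega, ← H.odd_self, ha]
    obtain ⟨u', v', D⟩ := H.normW0 hβ (h0 u) (h0 v)
    exact ⟨u', v', by rw [D.hc]; simp, fun j => by rw [D.hu, D.hv]; simp [qu, qv]⟩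

omit [FiniteDimensional F V] [CharP F 2] in
theorem le_of_hom {W : Type*} [AddCommGroup W] [Module F W] {g : End F V} {U M : Submodule F V}
    {hU : ∀ x ∈ U, g x ∈ U} {ι : W →ₗ[F] U} {h : ℕ} (H : IsHom h (g.restrict hU) ι)
    (hM : ∀ x ∈ M, g x ∈ M) (h1 : ∀ w, (ι w : V) ∈ M) : U ≤ M := fun x hx => by
  obtain ⟨w, hw⟩ := H.2.2 ⟨x, hx⟩
  have := congrArg Subtype.val hw
  rw [coe_phi_restrict, phi_apply] at this
  rw [← show _ = x from this]
  exact Submodule.sum_mem _ fun i _ => Module.End.pow_apply_mem_of_forall_mem _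
    (fun y hy => sub_mem (hM y hy) hy) _ (h1 _)

theorem rv_aux {F : Type*} [Field F] [Finite F] [CharP F 2] (n : ℕ) : ∀ {V : Type*}
    [AddCommGroup V] [Module F V] [FiniteDimensional F V] {Q : QuadraticForm F V},
    finrank F V = n → (polarBilin Q).Nondegenerate → ∀ g : OG Q, Rv g := by
  induction n using Nat.strong_induction_on with
  | _ n ih =>
  intro V _ _ _ Q hn hQ g
  have S := oset g
  have spl : ∀ U W : Submodule F V, IsCompl U W → (∀ u ∈ U, ∀ w ∈ W, polarBilin Q u w = 0) →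
      (∀ x ∈ U, g.1 x ∈ U) → (∀ x ∈ W, g.1 x ∈ W) → U ≠ ⊥ → (U = ⊤ → Rv g) → Rv g := by
    intro U W hc ho hU hW h1 h2
    by_cases h3 : U = ⊤
    · exact h2 h3
    have h4 : W ≠ ⊤ := fun h => h1 (eq_bot_of_isCompl_top (h ▸ hc))
    exact Rv.glue hc ho hU hW
      (ih _ (hn ▸ Submodule.finrank_lt h3) (Q := Q.restrict U) rfl (nondeg_left hQ S.refl hc ho) _)
      (ih _ (hn ▸ Submodule.finrank_lt h4) (Q := Q.restrict W) rfl (nondeg_right hQ S.refl hc ho) _)
  rcases subsingleton_or_nontrivial V with hV | hV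
  · exact ⟨1, 0, OG.ext fun _ => Subsingleton.elim _ _, finrank_zero_of_subsingleton, by simp⟩
  by_cases hK : fitK (specO Q g) = ⊥
  · have h1 : ∀ z, g.1 z = z → z = 0 := fun z hz => (Submodule.eq_bot_iff _).1 hK z
      (mem_fitK_of_pow (k := 1) (by simp [specO_apply, hz]))
    obtain ⟨U, ⟨b1, b2, b3⟩, b4⟩ := S.exists_cyc_blk hQ h1 fun z hz =>
      h1 z (hz.trans (vneg (F := F) z))
    exact spl U _ (LinearMap.BilinForm.isCompl_orthogonal_of_restrict_nondegenerate S.refl b3)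
      (fun u hu w hw => hw u hu) b2 (orthogonal_inv hQ S.isom b2) b1
      fun h => rv_of_bi hQ g h1 (h ▸ b4)
  refine spl _ _ (isCompl_fit _) (S.isom.fit_orth hQ) (fitK_inv _) (fitR_inv _) hK fun hK => ?_
  obtain ⟨z, hz⟩ := exists_ne (0 : V)
  have hN : ∀ w, ((specO Q g - 1) ^ finrank F V) w = 0 := fun w => mem_fitK.1 (hK ▸ trivial)
  obtain ⟨h, u, h1, -, h2⟩ := OreSp.exists_top hz (hN z)
  have H : Uni Q (specO Q g) (h + 1) := ⟨hQ, g.2, fun w => h1 w (hN w)⟩
  have hE := isEps_of_isAlt S.alt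
  by_cases ha : ∀ w, polarBilin Q (nn (specO Q g) h w) w = 0
  · obtain ⟨v, hv⟩ : ∃ v, polarBilin Q (nn (specO Q g) h u) v ≠ 0 :=
      not_forall.1 fun h => h2 (hQ.1 _ h)
    obtain ⟨u, v, hβ, hq⟩ := exists_pair H hv ha
    obtain ⟨U, W, hU, hW, ι, hc, ho, k1, k2⟩ := exists_hom_split hQ hE S.isom
      (OreSp.pairMap F u v) (fun w => H.nil _) (OreSp.pair_sep S.alt S.isom (H.nil u) (ha u) hβ)
    refine spl U W hc ho hU hW (fun h0 => hβ ?_) fun h0 => ?_
    · have := (Submodule.eq_bot_iff _).1 h0 _ (ι (0, 1)).2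
      rw [k1, OreSp.pairMap_apply, zero_smul, zero_add, one_smul] at this
      rw [this, map_zero]
    have ht : Cy (specO Q g) u ⊔ Cy (specO Q g) v = ⊤ := top_le_iff.1 (h0.ge.trans (le_of_hom k2
      (fun x hx => by
        obtain ⟨a, ha, b, hb, rfl⟩ := Submodule.mem_sup.1 hx
        rw [map_add]
        exact Submodule.add_mem_sup (Cy_inv _ _ a ha) (Cy_inv _ _ b hb))
      fun w => k1 w ▸ Submodule.add_mem_sup (Submodule.smul_mem _ _ (nn_mem_Cy _ 0 u))
        (Submodule.smul_mem _ _ (nn_mem_Cy _ 0 v))))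
    obtain ⟨x, x1, x2, x3⟩ := exists_swap hQ g ht hq
    have d0 := k2.finrank_eq
    have d1 := finrank_Cy_le (H.nil u)
    have d2 := finrank_Cy_le (H.nil v)
    have d3 := Submodule.finrank_sup_add_finrank_inf_eq (Cy (specO Q g) u) (Cy (specO Q g) v)
    rw [h0, finrank_top, finrank_prod, finrank_self] at d0
    rw [ht, finrank_top] at d3
    exact Rv.of_inv hQ x1 x2 (Cy (specO Q g) u) (by omega) fun a ha hx => (Submodule.eq_bot_iff _).1
      (Submodule.finrank_eq_zero.1 (by omega)) a (Submodule.mem_inf.2 ⟨ha, hx ▸ x3 a ha⟩)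
  obtain ⟨u, hu⟩ := not_forall.1 ha
  obtain ⟨U, W, hU, hW, ι, hc, ho, k1, k2⟩ := exists_block_split hQ hE S.isom (H.nil u) hu
  refine spl U W hc ho hU hW (fun h0 => hu ?_) fun h0 => ?_
  · rw [← k1, (Submodule.eq_bot_iff _).1 h0 _ (ι 1).2, map_zero]
  obtain ⟨x, x1, -⟩ := exists_swap hQ g (u := u) (top_le_iff.1 ((h0.ge.trans (le_of_hom k2
    (Cy_inv _ u) fun w => by
      rw [← mul_one w, ← smul_eq_mul, map_smul, Submodule.coe_smul, k1]
      exact Submodule.smul_mem _ _ (nn_mem_Cy _ 0 u))).trans le_sup_left)) fun _ => rfl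
  refine Rv.of_odd hQ x1 (Nat.not_even_iff_odd.1 fun he => h2 ?_)
  have d0 := k2.finrank_eq
  rw [h0, finrank_top, finrank_self, mul_one] at d0
  obtain ⟨m, hm⟩ := OS.even_of_two two0 hQ
  rw [show h = 2 * (m - 1) + 1 by omega, OS.pow_eq_zero_of_dickson hQ (by omega)
    ((dickson_eq_one_iff hQ g).2 he) (LinearMap.ext hN)]
  rfl

theorem rv [Finite F] (hQ : (polarBilin Q).Nondegenerate) (g : OG Q) : Rv g := rv_aux _ rfl hQ g

end Cfsg.Agent.Fs
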