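import Mathlib
import Cfsg.Agent.Fs.GeoE
import Cfsg.Agent.Fs.Real
import Cfsg.Agent.Cl.ClassTwoD
import Cfsg.Agent.Cl.OrthIso
import Cfsg.Agent.Ch.AbelianQuot
import Cfsg.Agent.S0304

/-! Symplectic and orthogonal groups in characteristic two are totally orthogonal. -/

set_option autoImplicit false

open Cfsg QuadraticMap Module

namespace Cfsg.Agent.Fs

open Cfsg.Agent.Ch Cfsg.Agent.Cl Cfsg.Agent.Cl.SpO

universe u

section Grp
variable {G : Type*} [Group G] {H : Type*} [Group H]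

/-- All elements are real and no irreducible character has indicator `-1`. -/
structure Tot (G : Type*) [Group G] : Prop where
  noq : NoQ G
  real : ∀ g : G, ∃ x, g * x * g = x

theorem Tot.im [Finite G] (h : Tot G) {χ : G → ℂ} (hχ : IsIrrCharacter G χ) (g : G) :
    (χ g).im = 0 := real_of_inv_eq hχ.isCharacter (fun g => by
  obtain ⟨x, hx⟩ := h.real g
  rw [← hχ.isClassFunction.conj_eq' g x, ← mul_inv_cancel_right (x⁻¹ * g * x) g, mul_assoc x⁻¹,
    mul_assoc x⁻¹, hx, inv_mul_cancel, one_mul]) g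

theorem Tot.sum [Finite G] (h : Tot G) (χ : IrrCharacter G) :
    (Nat.card G : ℂ)⁻¹ * ∑ᶠ s, χ.1 (s * s) = 1 := by
  have := Fintype.ofFinite G
  rw [finsum_eq_sum_of_fintype, ← fsInd_def]
  exact (fsInd_of_real χ.2 (h.im χ.2)).resolve_right (h.noq.out _ χ.2)

theorem Tot.of_equiv (h : Tot G) (e : G ≃* H) : Tot H := ⟨h.noq.of_equiv e, fun g => by
  obtain ⟨g, rfl⟩ := e.surjective g
  obtain ⟨x, hx⟩ := h.real g
  exact ⟨e x, by rw [← map_mul, ← map_mul, hx]⟩⟩

theorem Tot.index_two [Finite G] (h : Tot G) {N : Subgroup G} (hN : N.index = 2) : NoQ N := by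
  refine ⟨fun η hη h1 => ?_⟩
  have := Fintype.ofFinite G
  have := Subgroup.normal_of_index_eq_two hN
  obtain ⟨χ, hχ, h2⟩ := exists_irr_over N hη
  obtain ⟨m, hm⟩ := (hχ.isCharacter.comp N.subtype).exists_nat_classInner hη.isCharacter
  have h3 := (sq_le_relIndex_inertia hη hχ hm).trans (Nat.le_of_dvd (by omega)
    (Subgroup.relIndex_dvd_index_of_normal N _))
  have h4 : m ≠ 0 := fun h0 => h2 (hm.trans (by simp [h0]))
  obtain rfl : m = 1 := by nlinarith [Nat.pos_of_ne_zero h4]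
  exact h.noq.out χ hχ ((RC.fsInd_eq_of_odd_classInner hχ (h.im hχ) hη (real_of_neg_one hη h1)
    N.subtype hm odd_one).trans h1)

end Grp

theorem noQ_of_rad {F V U : Type*} [Field F] [AddCommGroup V] [Module F V] [AddCommGroup U]
    [Module F U] [Finite V] [FiniteDimensional F V] {Q : QuadraticForm F V} {N : QuadraticForm F U}
    (hQ : (polarBilin Q).Nondegenerate) (Y : U →ₗ[F] V) (hY : ∀ u, Q (Y u) = N u)
    (hi : Function.Injective Y) {w : U} (hw : ∀ a : OG N, a.1 w = w)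
    (hr : ∀ x, polar Q (Y w) x = 0 ↔ ∃ u, Y u = x) (h : NoQ (Lin Q ⊥ (Y w))) : NoQ (OG N) := by
  obtain ⟨φ, hφ⟩ := o_exists_hom_OG (Q := N) Y hi ((specO Q).comp (Lin Q ⊥ (Y w)).subtype)
    (fun g v => (hr _).1 ((congrArg (polar Q · _) (mem_Lin_bot.1 g.2)).symm.trans
      ((OG.polar_app g.1 _ _).trans ((hr _).2 ⟨v, rfl⟩))))
    fun g v v' hv => by rw [← hY, ← hY, hv]; exact OG.map_app g.1 _
  refine h.of_surj φ fun a => ?_
  let e := LinearEquiv.ofInjective Y hi
  obtain ⟨g, g1, g2⟩ := witt_quadratic hQ (LinearMap.range Y)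
    (Y ∘ₗ (a.1 : U →ₗ[F] U) ∘ₗ e.symm) (hi.comp (a.1.injective.comp e.symm.injective)) fun x => by
      obtain ⟨u, rfl⟩ := e.surjective x
      simp [hY, e]
  have g3 : ∀ u, g (Y u) = Y (a.1 u) := fun u => by simpa [e] using g2 (e u)
  exact ⟨⟨⟨g, g1⟩, mem_Lin_bot.2 (by rw [g3, hw])⟩, OG.ext fun u => hi ((hφ _ u).trans (g3 u))⟩

variable {F : Type u} [Field F] [Finite F] [CharP F 2]

section Form
variable {V : Type u} [AddCommGroup V] [Module F V] [Finite V] {Q : QuadraticForm F V}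

theorem tot_og (hQ : (polarBilin Q).Nondegenerate) : Tot (OG Q) :=
  ⟨(good hQ).og, fun g => (rv hQ g).imp fun _ h => h.elim fun _ h => h.1⟩

theorem tot_omega (hQ : (polarBilin Q).Nondegenerate) {m : ℕ} (hm : 2 ≤ m)
    (hd : finrank F V = 4 * m) : Tot (commutator (OG Q)) := by
  rw [commutator_OG_eq_ker_dickson hQ (not_oExc_of_finrank (by omega)) two0]
  refine ⟨(tot_og hQ).index_two ?_, fun g => ?_⟩
  · rw [Subgroup.index_ker, MonoidHom.range_eq_top.2 (dickson_surjective hQ (by omega))]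
    simp
  · obtain ⟨x, r, h1, h2, h3⟩ := rv hQ g.1
    exact ⟨⟨x, (dickson_eq_one_iff hQ x).2 ((Nat.even_add.1 h3).2 ⟨m, by omega⟩)⟩,
      Subtype.ext h1⟩

end Form

section Mat
variable {ι : Type} [Fintype ι] [DecidableEq ι] {Q : QuadraticForm F (ι → F)}

theorem tot_omat (hQ : (polarBilin Q).Nondegenerate) : Tot (isometryGroup F ⇑Q) :=
  (tot_og hQ).of_equiv (omatEquiv Q).symm

theorem tot_omega_mat (hQ : (polarBilin Q).Nondegenerate) {m : ℕ} (hm : 2 ≤ m)
    (hd : finrank F (ι → F) = 4 * m) : Tot (Omega F ⇑Q) :=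
  (tot_omega hQ hm hd).of_equiv (((omatEquiv Q).subgroupMap (Omega F ⇑Q)).trans
    (MulEquiv.subgroupCongr (Subgroup.ext fun g => by
      obtain ⟨g, rfl⟩ := (omatEquiv Q).surjective g
      rw [omatEquiv_mem_commutator_iff]
      exact Subgroup.mem_map_iff_mem (omatEquiv Q).injective))).symm

end Mat

theorem noQ_odd (n : ℕ) : NoQ (OG (quad_odd n F)) := by
  have hQ := o_prod_nondeg (quad_plus_nondeg (m := n) (F := F)) (ohyp_nondeg (F := F))
  let Y : (Unit ⊕ (Fin n ⊕ Fin n) → F) →ₗ[F] (Fin n ⊕ Fin n → F) × F × F :=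
    (S0304.pr n F).prod ((LinearMap.proj (.inl ())).prod (LinearMap.proj (.inl ())))
  have hY : ∀ v, Y v = (S0304.pr n F v, v (.inl ()), v (.inl ())) := fun _ => rfl
  have h0 : Y (Pi.single (.inl ()) 1) = (0, 1, 1) := by
    rw [hY, Pi.single_eq_same]
    congr 1
  refine noQ_of_rad hQ Y (fun u => ?_) ((injective_iff_map_eq_zero Y).2 fun v hv => ?_)
    S0304.fix (fun x => ?_) ((good hQ).lin _ _)
  · rw [hY, S0304.odd_eq, add_comm, pow_two]
    rfl
  · rw [S0304.decomp v, show S0304.pr n F v = 0 from congrArg (·.1) hv,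
      show v (.inl ()) = 0 from congrArg (·.2.1) hv, map_zero, zero_smul, add_zero]
  · obtain ⟨u, a, b⟩ := x
    have : polar ((quad_plus n F).prod (ohyp F)) (0, 1, 1) (u, a, b) = a + b := by
      simp [polar_ohyp, add_comm]
    rw [h0, this, CharTwo.add_eq_zero]
    refine ⟨?_, ?_⟩
    · rintro rfl
      exact ⟨Sum.elim (fun _ => a) u, rfl⟩
    · rintro ⟨v, hv⟩
      exact (congrArg (·.2.1) hv).symm.trans (congrArg (·.2.2) hv)

theorem tot_sp (n : ℕ) : Tot (Matrix.symplecticGroup (Fin n) F) := by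
  have := Fintype.ofFinite F
  obtain ⟨e⟩ := S0304.result (F := F) n
  refine ⟨(noQ_odd n).of_equiv ((omatEquiv (quad_odd n F)).symm.trans e), fun A => ?_⟩
  obtain ⟨Q, h1, h2⟩ := Two.exists_quad_fixed spB_isAlt (isIsom_specSp A)
  have hQ : (polarBilin Q).Nondegenerate := h1 ▸ spB_nondegenerate
  obtain ⟨a, ha⟩ := exists_OG_of_isom hQ h2
  obtain ⟨x, -, h3, -⟩ := rv hQ a
  obtain ⟨X, hX⟩ := exists_specSp_eq (y := specO Q x) (h1 ▸ isIsom_specO x)
  exact ⟨X, specSp_injective (by rw [map_mul, map_mul, hX, ← ha, ← map_mul, ← map_mul, h3])⟩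

end Cfsg.Agent.Fs
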